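import Cfsg.Agent.Char.Integrality
import Mathlib.GroupTheory.PGroup

/-!
# Congruences modulo `p` between algebraic integers and sums over `p`-group orbits
-/

set_option autoImplicit false
set_option linter.style.haveILetI false

namespace Cfsg.Agent.GlauberCorr

open Cfsg.Agent.Char

/-- `x - y` is `p` times an algebraic integer. -/
def Congr (p : ℕ) (x y : ℂ) : Prop :=
  ∃ z : ℂ, IsIntegral ℤ z ∧ x - y = (p : ℂ) * z

namespace Congr

variable {p : ℕ} {x y z w a : ℂ}

theorem refl (x : ℂ) : Congr p x x := ⟨0, isIntegral_zero, by ring⟩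

theorem of_eq (h : x = y) : Congr p x y := h ▸ refl x

theorem symm (h : Congr p x y) : Congr p y x := by
  obtain ⟨u, hu, he⟩ := h
  exact ⟨-u, hu.neg, by linear_combination -he⟩

theorem trans (h : Congr p x y) (h' : Congr p y z) : Congr p x z := by
  obtain ⟨u, hu, he⟩ := h
  obtain ⟨v, hv, he'⟩ := h'
  exact ⟨u + v, hu.add hv, by linear_combination he + he'⟩

theorem add (h : Congr p x y) (h' : Congr p z w) : Congr p (x + z) (y + w) := by
  obtain ⟨u, hu, he⟩ := h
  obtain ⟨v, hv, he'⟩ := h'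
  exact ⟨u + v, hu.add hv, by linear_combination he + he'⟩

theorem sub (h : Congr p x y) (h' : Congr p z w) : Congr p (x - z) (y - w) := by
  obtain ⟨u, hu, he⟩ := h
  obtain ⟨v, hv, he'⟩ := h'
  exact ⟨u - v, hu.sub hv, by linear_combination he - he'⟩

theorem mul_left (ha : IsIntegral ℤ a) (h : Congr p x y) : Congr p (a * x) (a * y) := by
  obtain ⟨u, hu, he⟩ := h
  exact ⟨a * u, ha.mul hu, by linear_combination a * he⟩

theorem mul_right (ha : IsIntegral ℤ a) (h : Congr p x y) : Congr p (x * a) (y * a) := by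
  rw [mul_comm x, mul_comm y]; exact h.mul_left ha

theorem sum {ι : Type*} (s : Finset ι) {f g : ι → ℂ} (h : ∀ i ∈ s, Congr p (f i) (g i)) :
    Congr p (∑ i ∈ s, f i) (∑ i ∈ s, g i) := by
  classical
  induction s using Finset.induction_on with
  | empty => exact refl _
  | insert i s hi ih =>
    rw [Finset.sum_insert hi, Finset.sum_insert hi]
    exact (h i (Finset.mem_insert_self i s)).add (ih fun j hj => h j (Finset.mem_insert_of_mem hj))

theorem natMul_zero (ha : IsIntegral ℤ a) {n : ℕ} (h : p ∣ n) : Congr p ((n : ℂ) * a) 0 := by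
  obtain ⟨t, rfl⟩ := h
  exact ⟨(t : ℂ) * a, (isIntegral_of_nat t).mul ha, by push_cast; ring⟩

theorem intCast_dvd [NeZero p] {n : ℤ} (h : Congr p (n : ℂ) 0) : (p : ℤ) ∣ n := by
  obtain ⟨z, hz, he⟩ := h
  rw [sub_zero] at he
  have hp : (p : ℂ) ≠ 0 := Nat.cast_ne_zero.mpr (NeZero.ne p)
  have hzq : z = (((n : ℚ) / p : ℚ) : ℂ) := by
    push_cast; rw [eq_div_iff hp, he]; ring
  obtain ⟨t, ht⟩ := exists_int_of_isIntegral_rat (hzq ▸ hz)
  refine ⟨t, ?_⟩
  rw [div_eq_iff (Nat.cast_ne_zero.mpr (NeZero.ne p))] at ht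
  exact_mod_cast (by rw [ht]; ring : (n : ℚ) = p * t)

theorem int_modEq [NeZero p] {m n : ℤ} (h : Congr p (m : ℂ) (n : ℂ)) : m ≡ n [ZMOD p] := by
  obtain ⟨z, hz, he⟩ := h.symm
  exact Int.modEq_iff_dvd.mpr (intCast_dvd ⟨z, hz, by rw [sub_zero]; push_cast; exact he⟩)

theorem nat_dvd [NeZero p] {n : ℕ} (h : Congr p (n : ℂ) 0) : p ∣ n :=
  Int.natCast_dvd_natCast.mp (intCast_dvd (n := (n : ℤ)) (by simpa using h))

/-- An integer prime to `p` can be cancelled. -/
theorem cancel_nat {n : ℕ} (hn : Nat.Coprime p n) (hx : IsIntegral ℤ x) (hy : IsIntegral ℤ y)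
    (h : Congr p ((n : ℂ) * x) ((n : ℂ) * y)) : Congr p x y := by
  obtain ⟨z, hz, he⟩ := h
  have hb : ((Nat.gcdA p n : ℤ) : ℂ) * p + ((Nat.gcdB p n : ℤ) : ℂ) * n = 1 := by
    have := Nat.gcd_eq_gcd_ab p n
    rw [hn.gcd_eq_one] at this
    have h' : ((1 : ℤ) : ℂ) = ((p : ℤ) * Nat.gcdA p n + (n : ℤ) * Nat.gcdB p n : ℤ) := by
      rw [← this]; norm_num
    push_cast at h'
    linear_combination -h'
  exact ⟨((Nat.gcdA p n : ℤ) : ℂ) * (x - y) + ((Nat.gcdB p n : ℤ) : ℂ) * z,
    ((isIntegral_of_int _).mul (hx.sub hy)).add ((isIntegral_of_int _).mul hz), by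
      linear_combination ((Nat.gcdB p n : ℤ) : ℂ) * he - (x - y) * hb⟩

end Congr

variable {p : ℕ}

/-- An invariant integral function sums to its sum over the fixed points modulo `p`. -/
theorem sum_congr_fixed [Fact p.Prime] {A X : Type*} [Group A] [Fintype X]
    (hA : IsPGroup p A) (σ : A →* Equiv.Perm X) (f : X → ℂ) (hint : ∀ x, IsIntegral ℤ (f x))
    (hf : ∀ a x, f (σ a x) = f x) [DecidablePred fun x : X => ∀ a, σ a x = x] :
    Congr p (∑ x, f x) (∑ x with (∀ a, σ a x = x), f x) := by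
  classical
  letI : MulAction A X := MulAction.compHom X σ
  rw [Finset.sum_filter]
  rw [← Finset.sum_fiberwise_of_maps_to (fun x _ => Finset.mem_image_of_mem f (Finset.mem_univ x)) f,
    ← Finset.sum_fiberwise_of_maps_to (fun x _ => Finset.mem_image_of_mem f (Finset.mem_univ x))
      (fun x => if ∀ a, σ a x = x then f x else 0)]
  refine Congr.sum _ fun v hv => ?_
  obtain ⟨x₀, -, hx₀⟩ := Finset.mem_image.mp hv
  have hA' : ∑ x with f x = v, f x = ((Finset.univ.filter fun x => f x = v).card : ℂ) * v := by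
    rw [← nsmul_eq_mul, ← Finset.sum_const]
    exact Finset.sum_congr rfl fun x hx => (Finset.mem_filter.1 hx).2
  have hB : (∑ x with f x = v, if ∀ a, σ a x = x then f x else 0) =
      (((Finset.univ.filter fun x => f x = v).filter fun x => ∀ a, σ a x = x).card : ℂ) * v := by
    rw [← nsmul_eq_mul, ← Finset.sum_const, Finset.sum_filter (fun x => ∀ a, σ a x = x)]
    refine Finset.sum_congr rfl fun x hx => ?_
    rw [(Finset.mem_filter.1 hx).2]
  rw [hA', hB]
  let Y : SubMulAction A X :=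
    { carrier := {x | f x = v}
      smul_mem' := fun u x hx => (hf u x).trans hx }
  have hY := hA.card_modEq_card_fixedPoints Y
  have h1 : Nat.card Y = (Finset.univ.filter fun x => f x = v).card := by
    rw [← Nat.card_eq_finsetCard]
    exact Nat.card_congr (Equiv.subtypeEquivRight fun x => by simp [Y, SetLike.mem_coe]; rfl)
  have h2 : Nat.card (MulAction.fixedPoints A Y) =
      ((Finset.univ.filter fun x => f x = v).filter fun x => ∀ a, σ a x = x).card := by
    rw [← Nat.card_eq_finsetCard]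
    refine Nat.card_congr
      { toFun := fun y => ⟨y.1.1, ?_⟩
        invFun := fun x => ⟨⟨x.1, ?_⟩, ?_⟩
        left_inv := fun _ => rfl
        right_inv := fun _ => rfl }
    · simp only [Finset.mem_filter, Finset.mem_univ, true_and]
      exact ⟨y.1.2, fun a => congrArg Subtype.val (y.2 a)⟩
    · exact (Finset.mem_filter.1 (Finset.mem_filter.1 x.2).1).2
    · exact fun a => Subtype.ext ((Finset.mem_filter.1 x.2).2 a)
  rw [h1, h2] at hY
  obtain ⟨t, ht⟩ := Int.modEq_iff_dvd.mp (Int.natCast_modEq_iff.mpr hY).symm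
  refine ⟨(t : ℂ) * v, (isIntegral_of_int t).mul (hx₀ ▸ hint x₀), ?_⟩
  have ht' := congrArg (fun i : ℤ => (i : ℂ)) ht
  push_cast at ht'
  linear_combination v * ht'

end Cfsg.Agent.GlauberCorr
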