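import Cfsg.Agent.GlauberCorr.Congr
import Cfsg.Agent.Brauer.WeakOrth
import Cfsg.Agent.Char.Virtual
import Cfsg.Agent.CharInd.Clifford

/-!
# Matching invariant characters of a `p'`-group with those of the fixed points of a `p`-group
-/

set_option autoImplicit false
set_option linter.style.haveILetI false

open scoped ComplexConjugate

namespace Cfsg.Agent.GlauberCorr

open Cfsg.Agent.Char

universe u v

/-- A family of multiplicities which is a signed bijection modulo `p`. -/
structure Matching {X Y : Type*} (p : ℕ) (PX : X → Prop) (PY : Y → Prop) (R : X → Y → ℕ) : Prop where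
  exists_left : ∀ x, PX x → ∃ y, PY y ∧ ¬ p ∣ R x y
  exists_right : ∀ y, PY y → ∃ x, PX x ∧ ¬ p ∣ R x y
  unique_right : ∀ x y y', PX x → PY y → PY y' → ¬ p ∣ R x y → ¬ p ∣ R x y' → y = y'
  unique_left : ∀ x x' y, PX x → PX x' → PY y → ¬ p ∣ R x y → ¬ p ∣ R x' y → x = x'
  sign : ∀ x y, PX x → PY y → ¬ p ∣ R x y →
    (R x y : ℤ) ≡ 1 [ZMOD p] ∨ (R x y : ℤ) ≡ -1 [ZMOD p]

variable {K : Type u} [Group K]

/-- The multiplicity of `ξ` in the restriction of `χ`. -/
noncomputable def resMult [Finite K] (C : Subgroup K) (χ : IrrCharacter K)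
    (ξ : IrrCharacter C) : ℕ :=
  letI := Fintype.ofFinite C
  ⌊(classInner (fun c : C => (χ : K → ℂ) c) (ξ : C → ℂ)).re⌋₊

theorem classInner_res_eq_resMult [Finite K] (C : Subgroup K) [Fintype C] (χ : IrrCharacter K)
    (ξ : IrrCharacter C) :
    classInner (fun c : C => (χ : K → ℂ) c) (ξ : C → ℂ) = (resMult C χ ξ : ℂ) := by
  rw [resMult]
  have he : (Fintype.ofFinite C) = (inferInstance : Fintype C) := Subsingleton.elim _ _
  rw [he]
  obtain ⟨n, hn⟩ := isCharacter_classInner_nat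
    (CharInd.isCharacter_res C (isCharacter_of_irr χ.2)) ξ
  rw [hn, Complex.natCast_re, Nat.floor_natCast]

theorem res_eq_sum_resMult [Finite K] (C : Subgroup K) [Fintype C] (χ : IrrCharacter K) (c : C) :
    (χ : K → ℂ) c = ∑ ξ : IrrCharacter C, (resMult C χ ξ : ℂ) * (ξ : C → ℂ) c := by
  have h := congrFun (eq_sum_classInner_smul (f := fun c : C => (χ : K → ℂ) c)
    (isCharacter_isClassFunction (CharInd.isCharacter_res C (isCharacter_of_irr χ.2)))) c
  rw [h, Finset.sum_apply]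
  exact Finset.sum_congr rfl fun ξ _ => by
    rw [Pi.smul_apply, smul_eq_mul, classInner_res_eq_resMult]

theorem irr_isIntegral [Finite K] (χ : IrrCharacter K) (k : K) : IsIntegral ℤ ((χ : K → ℂ) k) :=
  isCharacter_isIntegral (isCharacter_of_irr χ.2) k

theorem irr_conj_isIntegral [Finite K] (χ : IrrCharacter K) (k : K) :
    IsIntegral ℤ (conj ((χ : K → ℂ) k)) := by
  rw [← irr_inv χ.2]; exact irr_isIntegral χ _

/-- Precomposition of irreducible characters with automorphisms. -/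
noncomputable def irrPerm {A : Type v} [Group A] [Finite K] (φ : A →* MulAut K) :
    A →* Equiv.Perm (IrrCharacter K) where
  toFun a :=
    { toFun := fun χ => ⟨fun k => (χ : K → ℂ) (φ a⁻¹ k),
        isIrrCharacter_comp χ.2 (φ a⁻¹).toMonoidHom (φ a⁻¹).surjective⟩
      invFun := fun χ => ⟨fun k => (χ : K → ℂ) (φ a k),
        isIrrCharacter_comp χ.2 (φ a).toMonoidHom (φ a).surjective⟩
      left_inv := fun χ => Subtype.ext (funext fun k => by
        show (χ : K → ℂ) (φ a⁻¹ (φ a k)) = _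
        rw [← MulAut.mul_apply, ← map_mul, inv_mul_cancel, map_one, MulAut.one_apply])
      right_inv := fun χ => Subtype.ext (funext fun k => by
        show (χ : K → ℂ) (φ a (φ a⁻¹ k)) = _
        rw [← MulAut.mul_apply, ← map_mul, mul_inv_cancel, map_one, MulAut.one_apply]) }
  map_one' := Equiv.ext fun χ => Subtype.ext (funext fun k => by simp)
  map_mul' a b := Equiv.ext fun χ => Subtype.ext (funext fun k => by simp [mul_inv_rev])

theorem irrPerm_fixed_iff {A : Type v} [Group A] [Finite K] (φ : A →* MulAut K)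
    (χ : IrrCharacter K) :
    (∀ a, irrPerm φ a χ = χ) ↔ ∀ a k, (χ : K → ℂ) (φ a k) = (χ : K → ℂ) k := by
  refine ⟨fun h a k => ?_, fun h a => Subtype.ext (funext fun k => h a⁻¹ k)⟩
  have h1 := congrFun (congrArg Subtype.val (h a⁻¹)) k
  simpa [irrPerm] using h1

section Core

variable {A : Type v} [Group A] {p : ℕ} [hp : Fact p.Prime]

theorem coprime_of_not_dvd {n : ℕ} (h : ¬ p ∣ n) : Nat.Coprime p n :=
  hp.out.coprime_iff_not_dvd.mpr h

theorem sum_congr_sum_fixedSubgroup [Fintype K] (φ : A →* MulAut K) (hA : IsPGroup p A)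
    (C : Subgroup K) [Fintype C] (hC : ∀ k, k ∈ C ↔ ∀ a, φ a k = k) (f : K → ℂ)
    (hint : ∀ k, IsIntegral ℤ (f k)) (hf : ∀ a k, f (φ a k) = f k) :
    Congr p (∑ k, f k) (∑ c : C, f c) := by
  classical
  let σ : A →* Equiv.Perm K :=
    { toFun := fun a => (φ a).toEquiv
      map_one' := by ext k; simp
      map_mul' := fun a b => by ext k; simp }
  refine (sum_congr_fixed hA σ f hint hf).trans (Congr.of_eq ?_)
  exact Finset.sum_subtype _ (fun k => by simp [σ, hC]) f

/-- Elements of the fixed point subgroup conjugate in `K` are conjugate in it. -/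
theorem isConj_of_isConj_fixed [Finite K] (φ : A →* MulAut K) (hA : IsPGroup p A)
    (hK : ¬ p ∣ Nat.card K) (C : Subgroup K) (hC : ∀ k, k ∈ C ↔ ∀ a, φ a k = k) (c c' : C)
    (h : IsConj (c : K) c') : IsConj c c' := by
  classical
  letI := Fintype.ofFinite K
  letI := Fintype.ofFinite C
  obtain ⟨k₀, hk₀⟩ := isConj_iff.mp h
  let f : K → ℂ := fun k => if k * c * k⁻¹ = (c' : K) then 1 else 0
  have hf : ∀ a k, f (φ a k) = f k := by
    intro a k
    refine if_congr ?_ rfl rfl
    conv_lhs => rw [← (hC _).mp c.2 a, ← (hC _).mp c'.2 a, ← map_inv, ← map_mul, ← map_mul]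
    exact (φ a).injective.eq_iff
  have hsum := sum_congr_sum_fixedSubgroup φ hA C hC f
    (fun k => by simp only [f]; split_ifs <;> [exact isIntegral_one; exact isIntegral_zero]) hf
  have hcard : (∑ k, f k) = (Nat.card (Subgroup.centralizer ({(c : K)} : Set K)) : ℂ) := by
    simp only [f, Finset.sum_boole]
    congr 1
    rw [← Nat.card_eq_finsetCard]
    refine Nat.card_congr ⟨fun k => ⟨k₀⁻¹ * k.1, ?_⟩, fun z => ⟨k₀ * z.1, ?_⟩, fun k => ?_, fun z => ?_⟩
    · have hk := (Finset.mem_filter.mp k.2).2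
      rw [Subgroup.mem_centralizer_singleton_iff]
      calc k₀⁻¹ * k.1 * c = k₀⁻¹ * (k.1 * c * (k.1)⁻¹) * k.1 := by group
        _ = k₀⁻¹ * (k₀ * c * k₀⁻¹) * k.1 := by rw [hk, hk₀]
        _ = c * (k₀⁻¹ * k.1) := by group
    · have hz := Subgroup.mem_centralizer_singleton_iff.mp z.2
      simp only [Finset.mem_filter, Finset.mem_univ, true_and]
      calc k₀ * z.1 * c * (k₀ * z.1)⁻¹ = k₀ * (z.1 * c) * (z.1)⁻¹ * k₀⁻¹ := by group
        _ = k₀ * c * k₀⁻¹ := by rw [hz]; group
        _ = c' := hk₀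
    · exact Subtype.ext (mul_inv_cancel_left _ _)
    · exact Subtype.ext (inv_mul_cancel_left _ _)
  by_contra hne
  have hzero : (∑ k : C, f k) = 0 := Finset.sum_eq_zero fun k _ => if_neg fun hk =>
    hne (isConj_iff.mpr ⟨k, Subtype.ext hk⟩)
  rw [hcard, hzero] at hsum
  exact hK ((Congr.nat_dvd hsum).trans (Subgroup.card_subgroup_dvd_card _))

variable [Fintype K]

theorem card_congr_fixed (φ : A →* MulAut K) (hA : IsPGroup p A) (C : Subgroup K) [Fintype C]
    (hC : ∀ k, k ∈ C ↔ ∀ a, φ a k = k) : Congr p (Nat.card K : ℂ) (Nat.card C : ℂ) := by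
  simpa [← Nat.card_eq_fintype_card] using
    sum_congr_sum_fixedSubgroup φ hA C hC (fun _ => 1) (fun _ => isIntegral_one) (fun _ _ => rfl)

/-- Integer combinations of irreducible characters vanishing modulo `p` have coefficients
divisible by `p`. -/
theorem congr_coeff_zero {H : Type u} [Group H] [Fintype H] (hH : ¬ p ∣ Nat.card H)
    (z : IrrCharacter H → ℂ) (hz : ∀ ξ, IsIntegral ℤ (z ξ))
    (h : ∀ c : H, Congr p (∑ ξ, z ξ * (ξ : H → ℂ) c) 0) (ξ : IrrCharacter H) :
    Congr p (z ξ) 0 := by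
  classical
  refine Congr.cancel_nat (coprime_of_not_dvd hH) (hz ξ) isIntegral_zero ?_
  have h1 := Congr.sum (p := p) Finset.univ
    fun c (_ : c ∈ (Finset.univ : Finset H)) => (h c).mul_right (irr_conj_isIntegral ξ c)
  refine ((Congr.of_eq ?_).trans h1).trans (Congr.of_eq (by simp))
  have h2 := sum_mul_conj_eq_card_mul_classInner (∑ η : IrrCharacter H, z η • (η : H → ℂ)) (ξ : H → ℂ)
  rw [classInner_sum_smul_irr] at h2
  rw [← h2]
  exact Finset.sum_congr rfl fun c _ => by
    rw [Finset.sum_apply]; simp [Pi.smul_apply, smul_eq_mul]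

theorem mult_mul_congr (φ : A →* MulAut K) (hA : IsPGroup p A) (hK : ¬ p ∣ Nat.card K)
    (C : Subgroup K) [Fintype C] (hC : ∀ k, k ∈ C ↔ ∀ a, φ a k = k) (χ χ' : IrrCharacter K)
    (hχ : ∀ a k, (χ : K → ℂ) (φ a k) = (χ : K → ℂ) k)
    (hχ' : ∀ a k, (χ' : K → ℂ) (φ a k) = (χ' : K → ℂ) k) (ξ : IrrCharacter C) :
    (χ ≠ χ' → ¬ p ∣ resMult C χ ξ → p ∣ resMult C χ' ξ) ∧
      (χ = χ' → Congr p (∑ η, ((resMult C χ η : ℂ) * resMult C χ' η)) 1) := by
  classical
  have hCd : ¬ p ∣ Nat.card C := fun h => hK (h.trans (Subgroup.card_subgroup_dvd_card C))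
  have hb : ∀ η : IrrCharacter C, ∃ b d : ℕ,
      Nat.card C = d * b ∧ (η : C → ℂ) 1 = d ∧ d ≠ 0 ∧ ¬ p ∣ b := fun η => by
    obtain ⟨d, hd0, hd, b, hb⟩ := irr_degree_dvd_card η.2
    exact ⟨b, d, hb, hd, hd0.ne', fun h => hCd (hb ▸ h.mul_left d)⟩
  choose b d hbd hd hd0 hbp using hb
  obtain ⟨e, he0, he, a, ha⟩ := irr_degree_dvd_card χ.2
  constructor
  · intro hne hm
    have hconv : ∀ c : C, Congr p (∑ η : IrrCharacter C,
        ((resMult C χ η * resMult C χ' η * b η : ℕ) : ℂ) * (η : C → ℂ) c) 0 := by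
      intro c
      have h1 := sum_congr_sum_fixedSubgroup φ hA C hC
        (fun k => (χ : K → ℂ) (k * c) * (χ' : K → ℂ) k⁻¹)
        (fun k => (irr_isIntegral χ _).mul (irr_isIntegral χ' _))
        (fun a k => by
          conv_lhs => rw [← (hC _).mp c.2 a, ← map_mul, ← map_inv, hχ, hχ'])
      rw [Brauer.irr_sum_mul, if_neg hne] at h1
      refine (Congr.of_eq ?_).trans h1.symm
      have h2 : ∀ x : C, (χ : K → ℂ) ((x : K) * c) * (χ' : K → ℂ) (x : K)⁻¹ =
          ∑ η : IrrCharacter C, ∑ η' : IrrCharacter C,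
            ((resMult C χ η : ℂ) * resMult C χ' η') * ((η : C → ℂ) (x * c) * (η' : C → ℂ) x⁻¹) := by
        intro x
        rw [← Subgroup.coe_mul, ← Subgroup.coe_inv, res_eq_sum_resMult, res_eq_sum_resMult,
          Finset.sum_mul_sum]
        exact Finset.sum_congr rfl fun η _ => Finset.sum_congr rfl fun η' _ => by ring
      rw [Finset.sum_congr rfl fun x _ => h2 x, Finset.sum_comm]
      refine Finset.sum_congr rfl fun η _ => ?_
      rw [Finset.sum_comm, Finset.sum_congr rfl fun η' _ => (Finset.mul_sum _ _ _).symm]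
      simp only [Brauer.irr_sum_mul, mul_ite, mul_zero, Finset.sum_ite_eq, Finset.mem_univ, if_true]
      rw [hbd η, hd]
      have := hd0 η
      push_cast; field_simp
    have h3 := Congr.nat_dvd (congr_coeff_zero hCd _ (fun η => isIntegral_of_nat _) hconv ξ)
    rcases hp.out.dvd_mul.mp h3 with h4 | h4
    · exact (hp.out.dvd_mul.mp h4).resolve_left hm
    · exact absurd h4 (hbp ξ)
  · rintro rfl
    have h1 := sum_congr_sum_fixedSubgroup φ hA C hC
      (fun k => (χ : K → ℂ) k * conj ((χ : K → ℂ) k))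
      (fun k => (irr_isIntegral χ _).mul (irr_conj_isIntegral χ _)) (fun a k => by simp only [hχ])
    rw [sum_mul_conj_eq_card_mul_classInner, classInner_irr_self χ.2, mul_one] at h1
    refine Congr.cancel_nat (coprime_of_not_dvd hCd)
      (IsIntegral.sum _ fun η _ => (isIntegral_of_nat _).mul (isIntegral_of_nat _)) isIntegral_one ?_
    refine (Congr.of_eq ?_).trans ((h1.symm.trans (card_congr_fixed φ hA C hC)).trans
      (Congr.of_eq (mul_one _).symm))
    rw [sum_mul_conj_eq_card_mul_classInner,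
      classInner_eq_sum_mul_conj (isCharacter_isClassFunction
        (CharInd.isCharacter_res C (isCharacter_of_irr χ.2)))]
    congr 1
    exact Finset.sum_congr rfl fun η _ => by rw [classInner_res_eq_resMult, Complex.conj_natCast]

/-- Every class function of the fixed subgroup is a combination of restricted invariant
characters modulo `p`. -/
theorem spanning_congr (φ : A →* MulAut K) (hA : IsPGroup p A) (hK : ¬ p ∣ Nat.card K)
    (C : Subgroup K) [Fintype C] (hC : ∀ k, k ∈ C ↔ ∀ a, φ a k = k) (ξ : IrrCharacter C)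
    [DecidablePred fun χ : IrrCharacter K => ∀ a, irrPerm φ a χ = χ] :
    ∃ α : IrrCharacter K → ℂ, (∀ χ, IsIntegral ℤ (α χ)) ∧ ∀ η : IrrCharacter C,
      Congr p (∑ χ with (∀ a, irrPerm φ a χ = χ), α χ * (resMult C χ η : ℂ))
        (if η = ξ then (Nat.card K : ℂ) else 0) := by
  classical
  have hCd : ¬ p ∣ Nat.card C := fun h => hK (h.trans (Subgroup.card_subgroup_dvd_card C))
  let f : K → ℂ := fun k => if h : ∃ c : C, IsConj k c then (ξ : C → ℂ) h.choose else 0
  have hfC : ∀ (k : K) (c : C), IsConj k c → f k = (ξ : C → ℂ) c := by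
    intro k c h
    have hex : ∃ c : C, IsConj k c := ⟨c, h⟩
    simp only [f, dif_pos hex]
    obtain ⟨y, hy⟩ := isConj_iff.mp
      (isConj_of_isConj_fixed φ hA hK C hC c _ (h.symm.trans hex.choose_spec))
    rw [← hy, irr_isClassFunction ξ.2]
  have hf0 : ∀ k : K, (¬ ∃ c : C, IsConj k c) → f k = 0 := fun k h => dif_neg h
  have hfint : ∀ k, IsIntegral ℤ (f k) := fun k => by
    simp only [f]; split_ifs <;> [exact irr_isIntegral ξ _; exact isIntegral_zero]
  have hfcl : IsClassFunction K f := by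
    intro g h
    by_cases hex : ∃ c : C, IsConj g c
    · obtain ⟨c, hc⟩ := hex
      rw [hfC g c hc, hfC _ c ((isConj_iff.mpr ⟨h, rfl⟩ : IsConj g (h * g * h⁻¹)).symm.trans hc)]
    · rw [hf0 g hex, hf0 _ fun ⟨c, hc⟩ => hex ⟨c, (isConj_iff.mpr ⟨h, rfl⟩ : IsConj g (h * g * h⁻¹)).trans hc⟩]
  have hfinv : ∀ a k, f (φ a k) = f k := by
    intro a k
    have key : ∀ c : C, IsConj (φ a k) c ↔ IsConj k c := by
      intro c
      conv_lhs => rw [← (hC _).mp c.2 a]
      exact ⟨fun h => by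
        simpa using (φ a).symm.toMonoidHom.map_isConj h,
        fun h => (φ a).toMonoidHom.map_isConj h⟩
    by_cases hex : ∃ c : C, IsConj k c
    · obtain ⟨c, hc⟩ := hex
      rw [hfC k c hc, hfC _ c ((key c).mpr hc)]
    · rw [hf0 k hex, hf0 _ fun ⟨c, hc⟩ => hex ⟨c, (key c).mp hc⟩]
  let α : IrrCharacter K → ℂ := fun χ => ∑ k, f k * conj ((χ : K → ℂ) k)
  have hαint : ∀ χ, IsIntegral ℤ (α χ) := fun χ =>
    IsIntegral.sum _ fun k _ => (hfint k).mul (irr_conj_isIntegral χ k)
  have hαinv : ∀ a χ, α (irrPerm φ a χ) = α χ := by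
    intro a χ
    refine Fintype.sum_equiv (φ a⁻¹).toEquiv _ _ fun k => ?_
    show f k * conj ((χ : K → ℂ) (φ a⁻¹ k)) = f (φ a⁻¹ k) * _
    rw [hfinv]
    rfl
  refine ⟨α, hαint, fun η => ?_⟩
  have hc : ∀ c : C, Congr p ((Nat.card K : ℂ) * (ξ : C → ℂ) c)
      (∑ χ with (∀ a, irrPerm φ a χ = χ), α χ * (χ : K → ℂ) c) := by
    intro c
    refine (Congr.of_eq ?_).trans (sum_congr_fixed hA (irrPerm φ)
      (fun χ => α χ * (χ : K → ℂ) c) (fun χ => (hαint χ).mul (irr_isIntegral χ _))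
      fun a χ => ?_)
    · rw [← hfC (c : K) c (IsConj.refl _), congrFun (eq_sum_classInner_smul hfcl) (c : K),
        Finset.sum_apply, Finset.mul_sum]
      exact Finset.sum_congr rfl fun χ _ => by
        show (Nat.card K : ℂ) * (classInner f (χ : K → ℂ) * (χ : K → ℂ) c) = _
        rw [← mul_assoc, ← sum_mul_conj_eq_card_mul_classInner]
    · simp only [hαinv]
      congr 1
      show (χ : K → ℂ) (φ a⁻¹ c) = _
      rw [(hC _).mp c.2]
  have hz := congr_coeff_zero hCd
    (fun η : IrrCharacter C => (if η = ξ then (Nat.card K : ℂ) else 0) -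
      ∑ χ with (∀ a, irrPerm φ a χ = χ), α χ * (resMult C χ η : ℂ))
    (fun η => (by split_ifs <;> [exact isIntegral_of_nat _; exact isIntegral_zero] : IsIntegral ℤ _).sub
      (IsIntegral.sum _ fun χ _ => (hαint χ).mul (isIntegral_of_nat _))) (fun c => ?_) η
  · obtain ⟨w, hw, hw'⟩ := hz
    exact ⟨-w, hw.neg, by linear_combination -hw'⟩
  refine (Congr.of_eq ?_).trans (((hc c).sub (Congr.refl _)).trans (Congr.of_eq (sub_self _)))
  simp only [sub_mul, Finset.sum_sub_distrib, ite_mul, zero_mul, Finset.sum_ite_eq',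
    Finset.mem_univ, if_true]
  congr 1
  rw [Finset.sum_congr rfl fun η _ => Finset.sum_mul _ _ _, Finset.sum_comm]
  exact Finset.sum_congr rfl fun χ _ => by
    rw [res_eq_sum_resMult C χ c, Finset.mul_sum]
    exact Finset.sum_congr rfl fun η _ => by ring

omit [Fintype K] in
/-- The correspondence for a `p`-group acting on a `p'`-group. -/
theorem matching_fixed [Finite K] (φ : A →* MulAut K) (hA : IsPGroup p A)
    (hK : ¬ p ∣ Nat.card K) (C : Subgroup K) (hC : ∀ k, k ∈ C ↔ ∀ a, φ a k = k) :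
    Matching p (fun χ : IrrCharacter K => ∀ a k, (χ : K → ℂ) (φ a k) = (χ : K → ℂ) k)
      (fun _ : IrrCharacter C => True) (resMult C) := by
  classical
  letI := Fintype.ofFinite K
  letI := Fintype.ofFinite C
  haveI : NeZero p := ⟨hp.out.ne_zero⟩
  have hspan : ∀ ξ, ∃ χ : IrrCharacter K, (∀ a k, (χ : K → ℂ) (φ a k) = (χ : K → ℂ) k) ∧
      ¬ p ∣ resMult C χ ξ := by
    intro ξ
    obtain ⟨α, hα, hc⟩ := spanning_congr φ hA hK C hC ξ
    by_contra hcon
    push Not at hcon
    have h := hc ξ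
    rw [if_pos rfl] at h
    refine hK (Congr.nat_dvd (h.symm.trans ?_))
    refine (Congr.sum _ fun χ hχ => ?_).trans (Congr.of_eq Finset.sum_const_zero)
    rw [mul_comm]
    exact Congr.natMul_zero (hα χ)
      (hcon χ ((irrPerm_fixed_iff φ χ).mp (Finset.mem_filter.mp hχ).2))
  have huniq : ∀ χ ξ η, (∀ a k, ((χ : IrrCharacter K) : K → ℂ) (φ a k) = (χ : K → ℂ) k) →
      ¬ p ∣ resMult C χ ξ → ¬ p ∣ resMult C χ η → ξ = η := by
    intro χ ξ η hχ hξ hη
    by_contra hne
    obtain ⟨α, hα, hc⟩ := spanning_congr φ hA hK C hC ξ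
    have hred : ∀ ζ, ¬ p ∣ resMult C χ ζ →
        Congr p (∑ x with (∀ a, irrPerm φ a x = x), α x * (resMult C x ζ : ℂ))
          (α χ * (resMult C χ ζ : ℂ)) := by
      intro ζ hζ
      rw [← Finset.add_sum_erase _ _ (Finset.mem_filter.mpr
        ⟨Finset.mem_univ χ, (irrPerm_fixed_iff φ χ).mpr hχ⟩)]
      refine ((Congr.refl _).add ((Congr.sum _ fun x hx => ?_).trans
        (Congr.of_eq Finset.sum_const_zero))).trans (Congr.of_eq (add_zero _))
      rw [mul_comm]
      exact Congr.natMul_zero (hα x) ((mult_mul_congr φ hA hK C hC χ x hχ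
        ((irrPerm_fixed_iff φ x).mp (Finset.mem_filter.mp (Finset.mem_of_mem_erase hx)).2) ζ).1
        (Finset.ne_of_mem_erase hx).symm hζ)
    have h1 := ((hred ξ hξ).symm.trans (hc ξ))
    have h2 := ((hred η hη).symm.trans (hc η))
    rw [if_pos rfl] at h1
    rw [if_neg (Ne.symm hne)] at h2
    have h3 : Congr p ((resMult C χ η * Nat.card K : ℕ) : ℂ) 0 := by
      refine ((Congr.of_eq (Nat.cast_mul _ _)).trans
        ((h1.symm.mul_left (isIntegral_of_nat _)).trans (Congr.of_eq ?_))).trans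
        ((h2.mul_left (isIntegral_of_nat (resMult C χ ξ))).trans (Congr.of_eq (mul_zero _)))
      ring
    rcases hp.out.dvd_mul.mp (Congr.nat_dvd h3) with h | h
    exacts [hη h, hK h]
  refine ⟨fun χ hχ => ?_, fun ξ _ => hspan ξ, fun χ ξ η hχ _ _ => huniq χ ξ η hχ,
    fun χ χ' ξ hχ hχ' _ h h' => by_contra fun hne =>
      h' ((mult_mul_congr φ hA hK C hC χ χ' hχ hχ' ξ).1 hne h),
    fun χ ξ hχ _ hξ => ?_⟩
  · by_contra hcon
    push Not at hcon
    have h := (mult_mul_congr φ hA hK C hC χ χ hχ hχ (trivialIrr C)).2 rfl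
    refine hp.out.not_dvd_one (Congr.nat_dvd ?_)
    refine ((Congr.of_eq Nat.cast_one).trans h.symm).trans
      ((Congr.sum _ fun η _ => ?_).trans (Congr.of_eq Finset.sum_const_zero))
    exact Congr.natMul_zero (isIntegral_of_nat _) (hcon η trivial)
  · have h := (mult_mul_congr φ hA hK C hC χ χ hχ hχ ξ).2 rfl
    rw [← Finset.add_sum_erase _ _ (Finset.mem_univ ξ)] at h
    have h0 : Congr p (∑ x ∈ (Finset.univ : Finset (IrrCharacter C)).erase ξ,
        (resMult C χ x : ℂ) * resMult C χ x) 0 :=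
      (Congr.sum _ fun η hη => Congr.natMul_zero (isIntegral_of_nat _)
        (by_contra fun hn => Finset.ne_of_mem_erase hη (huniq χ η ξ hχ hn hξ))).trans
        (Congr.of_eq Finset.sum_const_zero)
    have h1 : Congr p (((resMult C χ ξ : ℤ) * resMult C χ ξ : ℤ) : ℂ) ((1 : ℤ) : ℂ) := by
      push_cast
      exact (Congr.of_eq (add_zero _).symm).trans (((Congr.refl _).add h0.symm).trans h)
    have h2 := (Int.modEq_iff_dvd.mp (Congr.int_modEq h1).symm)
    have h3 : (p : ℤ) ∣ ((resMult C χ ξ : ℤ) - 1) * ((resMult C χ ξ : ℤ) + 1) := by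
      convert h2 using 1; ring
    rcases (Nat.prime_iff_prime_int.mp hp.out).dvd_mul.mp h3 with h4 | h4
    · exact Or.inl (Int.modEq_iff_dvd.mpr h4).symm
    · exact Or.inr (Int.modEq_iff_dvd.mpr (by simpa using h4)).symm

end Core

end Cfsg.Agent.GlauberCorr
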