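import Cfsg.Agent.GlauberCorr.Core
import Cfsg.Agent.CharExt.Gallagher
import Cfsg.Agent.CharExt.Extension
import Cfsg.Agent.CharExt.Inertia
import Cfsg.Agent.S0854

/-!
# Multiplicities along homomorphisms; Clifford and Gallagher correspondences in this language
-/

set_option autoImplicit false
set_option linter.style.haveILetI false

open scoped ComplexConjugate

namespace Cfsg.Agent.GlauberCorr

open Cfsg.Agent.Char

universe u

variable {G H L : Type u} [Group G] [Finite G] [Group H] [Finite H] [Group L] [Finite L]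

/-- The multiplicity of `ξ` in the pullback of `χ` along `f`. -/
noncomputable def homMult (f : H →* G) (χ : IrrCharacter G) (ξ : IrrCharacter H) : ℕ :=
  letI := Fintype.ofFinite H
  ⌊(classInner (fun h : H => (χ : G → ℂ) (f h)) (ξ : H → ℂ)).re⌋₊

theorem resMult_eq_homMult (C : Subgroup G) (χ : IrrCharacter G) (ξ : IrrCharacter C) :
    resMult C χ ξ = homMult C.subtype χ ξ := rfl

theorem classInner_comp_eq_homMult [Fintype H] (f : H →* G) (χ : IrrCharacter G)
    (ξ : IrrCharacter H) :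
    classInner (fun h : H => (χ : G → ℂ) (f h)) (ξ : H → ℂ) = (homMult f χ ξ : ℂ) := by
  rw [homMult]
  have he : (Fintype.ofFinite H) = (inferInstance : Fintype H) := Subsingleton.elim _ _
  rw [he]
  obtain ⟨n, hn⟩ := isCharacter_classInner_nat
    (CharInd.isCharacter_comp f (isCharacter_of_irr χ.2)) ξ
  rw [hn, Complex.natCast_re, Nat.floor_natCast]

theorem homMult_eq_of_classInner [Fintype H] {f : H →* G} {χ : IrrCharacter G}
    {ξ : IrrCharacter H} {n : ℕ}
    (h : classInner (fun h : H => (χ : G → ℂ) (f h)) (ξ : H → ℂ) = (n : ℂ)) :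
    homMult f χ ξ = n := by
  rw [classInner_comp_eq_homMult] at h; exact_mod_cast h

theorem comp_eq_sum_homMult [Fintype H] (f : H →* G) (χ : IrrCharacter G) :
    (fun h : H => (χ : G → ℂ) (f h)) =
      ∑ η : IrrCharacter H, (homMult f χ η : ℂ) • (η : H → ℂ) := by
  rw [eq_sum_classInner_smul (f := fun h : H => (χ : G → ℂ) (f h))
    (isCharacter_isClassFunction (CharInd.isCharacter_comp f (isCharacter_of_irr χ.2)))]
  exact Finset.sum_congr rfl fun η _ => by rw [classInner_comp_eq_homMult]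

/-- Multiplicities compose. -/
theorem homMult_comp [Fintype H] (f : H →* G) (g : L →* H) (χ : IrrCharacter G)
    (θ : IrrCharacter L) :
    homMult (f.comp g) χ θ = ∑ η : IrrCharacter H, homMult f χ η * homMult g η θ := by
  classical
  letI := Fintype.ofFinite L
  refine homMult_eq_of_classInner ?_
  have h : (fun l : L => (χ : G → ℂ) ((f.comp g) l)) =
      ∑ η : IrrCharacter H, (homMult f χ η : ℂ) • fun l : L => (η : H → ℂ) (g l) := by
    funext l
    have h1 := congrFun (comp_eq_sum_homMult f χ) (g l)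
    simpa [Finset.sum_apply] using h1
  rw [h, classInner_sum_left]
  push_cast
  exact Finset.sum_congr rfl fun η _ => by
    rw [classInner_smul_left, classInner_comp_eq_homMult]

theorem le_homMult_comp (f : H →* G) (g : L →* H) (χ : IrrCharacter G) (η : IrrCharacter H)
    (θ : IrrCharacter L) : homMult f χ η * homMult g η θ ≤ homMult (f.comp g) χ θ := by
  letI := Fintype.ofFinite H
  rw [homMult_comp]
  exact Finset.single_le_sum (f := fun η => homMult f χ η * homMult g η θ)
    (fun _ _ => Nat.zero_le _) (Finset.mem_univ η)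

theorem homMult_comp_ne_zero {f : H →* G} {g : L →* H} {χ : IrrCharacter G} {η : IrrCharacter H}
    {θ : IrrCharacter L} (h1 : homMult f χ η ≠ 0) (h2 : homMult g η θ ≠ 0) :
    homMult (f.comp g) χ θ ≠ 0 := fun h =>
  Nat.mul_ne_zero h1 h2 (Nat.le_zero.mp (h ▸ le_homMult_comp f g χ η θ))

theorem exists_of_homMult_comp {f : H →* G} {g : L →* H} {χ : IrrCharacter G}
    {θ : IrrCharacter L} (h : homMult (f.comp g) χ θ ≠ 0) :
    ∃ η, homMult f χ η ≠ 0 ∧ homMult g η θ ≠ 0 := by
  letI := Fintype.ofFinite H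
  rw [homMult_comp] at h
  obtain ⟨η, -, hη⟩ := Finset.exists_ne_zero_of_sum_ne_zero h
  exact ⟨η, Nat.mul_ne_zero_iff.mp hη⟩

omit [Finite G] [Finite H] in
theorem classInner_comp_surjective [Fintype G] [Fintype H] (f : H →* G)
    (hf : Function.Surjective f) (a b : G → ℂ) :
    classInner (fun h => a (f h)) (fun h => b (f h)) = classInner a b := by
  classical
  have hfib : ∀ g : G, (Finset.univ.filter fun h => f h = g).card = Nat.card f.ker := by
    intro g
    obtain ⟨h₀, rfl⟩ := hf g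
    rw [← Nat.card_eq_finsetCard]
    refine Nat.card_congr ⟨fun h => ⟨h₀⁻¹ * h.1, ?_⟩, fun k => ⟨h₀ * k.1, ?_⟩,
      fun h => Subtype.ext (mul_inv_cancel_left _ _), fun k => Subtype.ext (inv_mul_cancel_left _ _)⟩
    · simp [MonoidHom.mem_ker, (Finset.mem_filter.mp h.2).2]
    · simp [MonoidHom.mem_ker.mp k.2]
  have hcard : Nat.card H = Nat.card G * Nat.card f.ker := by
    rw [Nat.card_eq_fintype_card (α := H), ← Finset.card_univ,
      Finset.card_eq_sum_card_fiberwise (f := f) (t := Finset.univ) (fun _ _ => Finset.mem_univ _),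
      Finset.sum_congr rfl fun g _ => hfib g, Finset.sum_const, Finset.card_univ,
      ← Nat.card_eq_fintype_card, smul_eq_mul]
  have hsum : ∀ F : G → ℂ, ∑ h : H, F (f h) = (Nat.card f.ker : ℂ) * ∑ g : G, F g := by
    intro F
    rw [← Finset.sum_fiberwise Finset.univ f, Finset.mul_sum]
    refine Finset.sum_congr rfl fun g _ => ?_
    rw [Finset.sum_congr rfl fun h hh => congrArg F (Finset.mem_filter.mp hh).2, Finset.sum_const,
      hfib g, nsmul_eq_mul]
  have hk : (Nat.card f.ker : ℂ) ≠ 0 := by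
    have : 0 < Nat.card f.ker := Nat.card_pos
    exact_mod_cast this.ne'
  unfold classInner
  rw [hsum fun g => a g * conj (b g), hcard]
  push_cast
  field_simp

/-- A character restricting irreducibly to a subgroup is irreducible. -/
theorem irr_of_restrict {N : Subgroup G} {χ : G → ℂ} (hχ : IsCharacter G χ)
    (h : IsIrrCharacter N fun n : N => χ n) : IsIrrCharacter G χ := by
  obtain ⟨n, σ, rfl⟩ := hχ
  refine ⟨n, σ, ?_, rfl⟩
  obtain ⟨k, ρ, hρ, hρc⟩ := h
  haveI := hρ
  obtain ⟨e⟩ := CharExt.nonempty_equiv_of_character_eq ρ (σ.comp N.subtype) hρc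
  haveI : Representation.IsIrreducible (σ.comp N.subtype) := isIrreducible_of_equiv e
  rw [isIrreducible_iff_forall]
  obtain ⟨h1, h2⟩ := (isIrreducible_iff_forall (σ.comp N.subtype)).mp inferInstance
  exact ⟨h1, fun p hp => h2 p fun m v hv => hp m v hv⟩

section Clifford

variable (N : Subgroup G) [hN : N.Normal] (θ : IrrCharacter N)

/-- Clifford correspondence, downwards. -/
theorem exists_clifford_down (T : Subgroup G) (hT : T = CharExt.inertia N (θ : N → ℂ))
    (hNT : N ≤ T) (χ : IrrCharacter G) (h : homMult N.subtype χ θ ≠ 0) :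
    ∃ ψ : IrrCharacter T, homMult (Subgroup.inclusion hNT) ψ θ ≠ 0 ∧
      homMult T.subtype χ ψ = 1 ∧
      (∀ ψ' : IrrCharacter T, homMult (Subgroup.inclusion hNT) ψ' θ ≠ 0 →
        homMult T.subtype χ ψ' ≠ 0 → ψ' = ψ) ∧
      letI := Fintype.ofFinite G
      Cfsg.indFun T (ψ : T → ℂ) = (χ : G → ℂ) := by
  classical
  letI := Fintype.ofFinite G
  letI := Fintype.ofFinite N
  letI := Fintype.ofFinite T
  obtain ⟨ψ, hψ, hind, heq⟩ := Cfsg.Agent.S0854.result N (θ : N → ℂ) θ.2 T
    (fun g => by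
      rw [hT, CharExt.mem_inertia, funext_iff]
      rfl)
    hNT (χ : G → ℂ) χ.2 (by
      rw [show (fun n : N => (χ : G → ℂ) n) = fun n : N => (χ : G → ℂ) (N.subtype n) from rfl,
        classInner_comp_eq_homMult]
      exact_mod_cast h)
  have h1 : homMult (Subgroup.inclusion hNT) ⟨ψ, hψ⟩ θ = homMult N.subtype χ θ := by
    refine homMult_eq_of_classInner ?_
    rw [← classInner_comp_eq_homMult N.subtype χ θ]
    exact heq
  have h2 : homMult T.subtype χ ⟨ψ, hψ⟩ = 1 := by
    refine homMult_eq_of_classInner ?_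
    have h3 := CharInd.classInner_indFun_right T ψ (irr_isClassFunction χ.2)
    rw [hind, classInner_irr_self χ.2] at h3
    rw [Nat.cast_one]
    exact h3.symm
  refine ⟨⟨ψ, hψ⟩, h1 ▸ h, h2, fun ψ' ho hm => by_contra fun hne => ?_, hind⟩
  have hsum : homMult N.subtype χ θ =
      ∑ η : IrrCharacter T, homMult T.subtype χ η * homMult (Subgroup.inclusion hNT) η θ :=
    homMult_comp T.subtype (Subgroup.inclusion hNT) χ θ
  rw [← Finset.add_sum_erase _ _ (Finset.mem_univ (⟨ψ, hψ⟩ : IrrCharacter T)), h2, h1,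
    one_mul] at hsum
  have h0 : ∑ η ∈ Finset.univ.erase (⟨ψ, hψ⟩ : IrrCharacter T),
      homMult T.subtype χ η * homMult (Subgroup.inclusion hNT) η θ = 0 := by omega
  exact Nat.mul_ne_zero hm ho
    (Finset.sum_eq_zero_iff.mp h0 ψ' (Finset.mem_erase.mpr ⟨hne, Finset.mem_univ _⟩))

/-- Clifford correspondence, upwards. -/
theorem exists_clifford_up (T : Subgroup G) (hT : T = CharExt.inertia N (θ : N → ℂ))
    (hNT : N ≤ T) (ψ : IrrCharacter T) (h : homMult (Subgroup.inclusion hNT) ψ θ ≠ 0) :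
    ∃ χ : IrrCharacter G, homMult N.subtype χ θ ≠ 0 ∧ homMult T.subtype χ ψ = 1 ∧
      (∀ χ' : IrrCharacter G, homMult T.subtype χ' ψ ≠ 0 → χ' = χ) := by
  classical
  letI := Fintype.ofFinite G
  letI := Fintype.ofFinite N
  letI := Fintype.ofFinite T
  have key : ∀ χ' : IrrCharacter G, homMult T.subtype χ' ψ ≠ 0 →
      homMult N.subtype χ' θ ≠ 0 ∧ homMult T.subtype χ' ψ = 1 ∧
        Cfsg.indFun T (ψ : T → ℂ) = (χ' : G → ℂ) := by
    intro χ' hm
    have ho : homMult N.subtype χ' θ ≠ 0 :=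
      homMult_comp_ne_zero (f := T.subtype) (g := Subgroup.inclusion hNT) hm h
    obtain ⟨ψ₀, -, h1, hu, hind⟩ := exists_clifford_down N θ T hT hNT χ' ho
    cases hu ψ h hm
    exact ⟨ho, h1, hind⟩
  have hne : Cfsg.indFun T (ψ : T → ℂ) ≠ 0 := fun h0 => by
    have h1 := congrFun h0 1
    rw [CharInd.indFun_one_apply, Pi.zero_apply, mul_eq_zero] at h1
    rcases h1 with h1 | h1
    · exact Subgroup.index_ne_zero_of_finite (by exact_mod_cast h1)
    · exact irr_one_ne_zero ψ.2 h1
  obtain ⟨χ, n, hn, hχ⟩ :=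
    exists_irr_constituent (CharInd.isCharacter_indFun T (isCharacter_of_irr ψ.2)) hne
  have hm : homMult T.subtype χ ψ = n := by
    refine homMult_eq_of_classInner ?_
    have h1 := CharInd.classInner_indFun_left T (ψ : T → ℂ) (irr_isClassFunction χ.2)
    rw [hχ] at h1
    have h2 := congrArg conj h1
    rw [map_natCast, classInner_conj] at h2
    exact h2.symm
  obtain ⟨ho, h1, hind⟩ := key χ (hm ▸ hn.ne')
  exact ⟨χ, ho, h1, fun χ' hm' => Subtype.ext (((key χ' hm').2.2).symm.trans hind)⟩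

end Clifford

section Gallagher

variable (N : Subgroup G) [hN : N.Normal] (θ : IrrCharacter N) (χ₀ : IrrCharacter G)
  (hext : ∀ n : N, (χ₀ : G → ℂ) n = (θ : N → ℂ) n)

include hext

theorem gallagher_irr (β : IrrCharacter (G ⧸ N)) :
    IsIrrCharacter G fun g => (β : G ⧸ N → ℂ) g * (χ₀ : G → ℂ) g := by
  letI := Fintype.ofFinite G
  letI := Fintype.ofFinite N
  have hres : IsIrrCharacter N fun n : N => (χ₀ : G → ℂ) n := by
    rw [show (fun n : N => (χ₀ : G → ℂ) n) = (θ : N → ℂ) from funext hext]; exact θ.2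
  refine CharExt.isIrrCharacter_mul N (χ₀ : G → ℂ) χ₀.2 hres
    (β := fun g : G => (β : G ⧸ N → ℂ) g)
    (isIrrCharacter_comp β.2 (QuotientGroup.mk' N) (QuotientGroup.mk'_surjective N)) fun n g => ?_
  show (β : G ⧸ N → ℂ) _ = _
  rw [QuotientGroup.mk_mul, (QuotientGroup.eq_one_iff _).mpr n.2, one_mul]

theorem gallagher_over (β : IrrCharacter (G ⧸ N)) :
    homMult N.subtype ⟨_, gallagher_irr N θ χ₀ hext β⟩ θ ≠ 0 := by
  letI := Fintype.ofFinite N
  obtain ⟨d, hd0, hd⟩ := irr_one_pos β.2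
  intro h
  have h1 : classInner (fun n : N => ((β : G ⧸ N → ℂ) (n : G) * (χ₀ : G → ℂ) (n : G)))
      (θ : N → ℂ) = (0 : ℕ) := by
    rw [← h]; exact classInner_comp_eq_homMult N.subtype ⟨_, gallagher_irr N θ χ₀ hext β⟩ θ
  rw [show (fun n : N => ((β : G ⧸ N → ℂ) (n : G) * (χ₀ : G → ℂ) (n : G))) =
    (d : ℂ) • (θ : N → ℂ) from funext fun n => by
      rw [(QuotientGroup.eq_one_iff _).mpr n.2, hd, hext, Pi.smul_apply, smul_eq_mul],
    classInner_smul_left, classInner_irr_self θ.2, mul_one, Nat.cast_inj] at h1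
  exact hd0.ne' h1

theorem gallagher_classInner [Fintype G] [Fintype (G ⧸ N)] (β β' : G ⧸ N → ℂ) :
    classInner (fun g : G => β g * (χ₀ : G → ℂ) g) (fun g : G => β' g * (χ₀ : G → ℂ) g) =
      classInner β β' := by
  letI := Fintype.ofFinite N
  have hres : IsIrrCharacter N fun n : N => (χ₀ : G → ℂ) n := by
    rw [show (fun n : N => (χ₀ : G → ℂ) n) = (θ : N → ℂ) from funext hext]; exact θ.2
  have h := CharExt.classInner_mul_mul N (χ₀ : G → ℂ) χ₀.2 hres (fun g : G => β g)
    (fun g : G => β' g)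
    (fun n g => by
      show β _ = _; rw [QuotientGroup.mk_mul, (QuotientGroup.eq_one_iff _).mpr n.2, one_mul])
    (fun n g => by
      show β' _ = _; rw [QuotientGroup.mk_mul, (QuotientGroup.eq_one_iff _).mpr n.2, one_mul])
  refine Eq.trans ?_ (h.trans
    (classInner_comp_surjective (QuotientGroup.mk' N) (QuotientGroup.mk'_surjective N) β β'))
  rfl

theorem gallagher_inj {β β' : IrrCharacter (G ⧸ N)}
    (h : ∀ g : G, (β : G ⧸ N → ℂ) g * (χ₀ : G → ℂ) g = (β' : G ⧸ N → ℂ) g * (χ₀ : G → ℂ) g) :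
    β = β' := by
  classical
  letI := Fintype.ofFinite G
  letI := Fintype.ofFinite (G ⧸ N)
  by_contra hne
  have h1 := gallagher_classInner N θ χ₀ hext (β : G ⧸ N → ℂ) (β' : G ⧸ N → ℂ)
  rw [funext h, gallagher_classInner N θ χ₀ hext (β' : G ⧸ N → ℂ) (β' : G ⧸ N → ℂ),
    classInner_irr_self β'.2, classInner_irr_ne β.2 β'.2 (fun e => hne (Subtype.ext e))] at h1
  exact one_ne_zero h1

theorem exists_gallagher (ψ : IrrCharacter G) (h : homMult N.subtype ψ θ ≠ 0) :
    ∃ β : IrrCharacter (G ⧸ N),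
      ∀ g : G, (ψ : G → ℂ) g = (β : G ⧸ N → ℂ) g * (χ₀ : G → ℂ) g := by
  classical
  letI := Fintype.ofFinite G
  letI := Fintype.ofFinite N
  set e := Cfsg.indFun N (fun _ : N => (1 : ℂ)) with he
  have hech : IsCharacter G e :=
    CharInd.isCharacter_indFun N (θ := fun _ => (1 : ℂ)) isCharacter_const_one
  obtain ⟨m, hm, hm'⟩ := isCharacter_exists_coeff hech
  have h2 : classInner (e * (χ₀ : G → ℂ)) (ψ : G → ℂ) ≠ 0 := by
    rw [← CharInd.indFun_mul_res N _ (irr_isClassFunction χ₀.2),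
      CharInd.classInner_indFun_left N _ (irr_isClassFunction ψ.2)]
    simp only [one_mul, hext]
    rw [← classInner_conj]
    rw [show (fun n : N => (ψ : G → ℂ) n) = fun n : N => (ψ : G → ℂ) (N.subtype n) from rfl,
      classInner_comp_eq_homMult, map_natCast]
    exact_mod_cast h
  rw [hm, Finset.sum_mul, classInner_sum_left] at h2
  obtain ⟨b, -, hb⟩ := Finset.exists_ne_zero_of_sum_ne_zero h2
  rw [← Nat.cast_smul_eq_nsmul ℂ, smul_mul_assoc, classInner_smul_left, mul_ne_zero_iff] at hb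
  have hinv := CharExt.inv_of_constituent N b.2 (by
    show classInner e (b : G → ℂ) ≠ 0
    rw [hm']; exact hb.1)
  have hres : IsIrrCharacter N fun n : N => (χ₀ : G → ℂ) n := by
    rw [show (fun n : N => (χ₀ : G → ℂ) n) = (θ : N → ℂ) from funext hext]; exact θ.2
  have hirr := CharExt.isIrrCharacter_mul N _ χ₀.2 hres b.2 hinv
  have hψ : (b : G → ℂ) * (χ₀ : G → ℂ) = (ψ : G → ℂ) :=
    by_contra fun hc => hb.2 (classInner_irr_ne hirr ψ.2 hc)
  obtain ⟨β, hβ, hβg⟩ := irr_exists_descend b.2 N fun n hn => by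
    have := hinv ⟨n, hn⟩ 1
    rwa [mul_one] at this
  exact ⟨⟨β, hβ⟩, fun g => by rw [← hψ, Pi.mul_apply, hβg]⟩

end Gallagher

end Cfsg.Agent.GlauberCorr
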