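import Cfsg.Agent.GlauberCorr.Stable

/-!
# The relative correspondence of invariant characters
-/

set_option autoImplicit false
set_option linter.style.haveILetI false

open scoped ComplexConjugate

namespace Cfsg.Agent.GlauberCorr

open Cfsg.Agent.Char

universe u v

variable {K : Type u} [Group K] [Finite K] {A : Type v} [Group A] {p : ℕ} [hp : Fact p.Prime]
  {φ : A →* MulAut K} {Q C : Subgroup K}

theorem irrComap_symm_irrComap {H : Type u} [Group H] [Finite H] (e : H ≃* K) (η : IrrCharacter H) :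
    irrComap e (irrComap e.symm η) = η :=
  Subtype.ext (funext fun x => by simp [irrComap])

theorem RelFixed.matching_over (h : RelFixed p φ Q C) (θ : IrrCharacter Q)
    (hθ : InvFun (subAut φ Q fun a _ hk => h.map_mem a hk) (θ : Q → ℂ)) :
    Matching p
      (fun χ : IrrCharacter K => InvFun φ (χ : K → ℂ) ∧ homMult Q.subtype χ θ ≠ 0)
      (fun ξ : IrrCharacter C => InvFun (subAut φ C fun a _ hk => h.fixed_map_mem a hk) (ξ : C → ℂ)
        ∧ homMult (Subgroup.inclusion h.le_fixed) ξ θ ≠ 0)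
      (homMult C.subtype) := by
  classical
  haveI := h.normal
  have hQC := h.le_fixed
  set T := CharExt.inertia Q (θ : Q → ℂ) with hTdef
  have hQT : Q ≤ T := CharExt.le_inertia Q (irr_isClassFunction θ.2)
  have hT := h.inertia_map_mem _ hθ
  have hr := h.restrict hT hQT
  set φT := subAut φ T hT
  set φC := subAut φ C fun a _ hk => h.fixed_map_mem a hk
  let eT : Q.subgroupOf T ≃* Q := Subgroup.subgroupOfEquivOfLe hQT
  let θT : IrrCharacter (Q.subgroupOf T) := irrComap eT θ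
  set D := C.subgroupOf T with hD
  set φD := subAut φT D fun a _ hk => hr.fixed_map_mem a hk
  haveI hNT : (Q.subgroupOf T).Normal := Subgroup.normal_subgroupOf
  have hθT : InvFun (subAut φT (Q.subgroupOf T) fun a _ hk => hr.map_mem a hk)
      (θT : Q.subgroupOf T → ℂ) := fun a q => hθ a (eT q)
  have hstabT : ∀ g : T, CharInd.conjChar (Q.subgroupOf T) g (θT : Q.subgroupOf T → ℂ) =
      (θT : Q.subgroupOf T → ℂ) := fun g => funext fun q =>
    congrFun (CharExt.mem_inertia.mp g.2) (eT q)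
  have MT := hr.matching_stable θT hθT hstabT
  -- inclusions
  let iQT : Q →* T := Subgroup.inclusion hQT
  let iQD : Q →* D :=
    { toFun := fun q => ⟨⟨q, hQT q.2⟩, hQC q.2⟩
      map_one' := rfl
      map_mul' := fun _ _ => rfl }
  let jC : D →* C :=
    { toFun := fun d => ⟨((d : T) : K), d.2⟩
      map_one' := rfl
      map_mul' := fun _ _ => rfl }
  have hoverT : ∀ ψ : IrrCharacter T,
      homMult (Q.subgroupOf T).subtype ψ θT = homMult iQT ψ θ := fun ψ => by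
    rw [← homMult_comp_equiv iQT eT ψ θ]; rfl
  have hoverD : ∀ η : IrrCharacter D,
      homMult (Subgroup.inclusion hr.le_fixed) η θT = homMult iQD η θ := fun η => by
    rw [← homMult_comp_equiv iQD eT η θ]; rfl
  -- the Clifford correspondences in `K`
  have downK : ∀ χ : IrrCharacter K, InvFun φ (χ : K → ℂ) → homMult Q.subtype χ θ ≠ 0 →
      ∃ ψ : IrrCharacter T, InvFun φT (ψ : T → ℂ) ∧ homMult iQT ψ θ ≠ 0 ∧
        homMult T.subtype χ ψ = 1 ∧
        ∀ ψ', homMult iQT ψ' θ ≠ 0 → homMult T.subtype χ ψ' ≠ 0 → ψ' = ψ := by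
    intro χ hχ hχo
    obtain ⟨ψ, ho, h1, hu, -⟩ := exists_clifford_down Q θ T hTdef hQT χ hχo
    refine ⟨ψ, (irrPerm_fixed_iff φT ψ).mp fun a => hu _ ?_ ?_, ho, h1, hu⟩
    · rw [← irrPerm_eq_self hθ a, homMult_perm _ φT _ (fun _ _ => rfl)]
      exact ho
    · rw [← irrPerm_eq_self hχ a, homMult_perm T.subtype φ φT (fun _ _ => rfl), h1]
      exact one_ne_zero
  have upK : ∀ ψ : IrrCharacter T, InvFun φT (ψ : T → ℂ) → homMult iQT ψ θ ≠ 0 →
      ∃ χ : IrrCharacter K, InvFun φ (χ : K → ℂ) ∧ homMult Q.subtype χ θ ≠ 0 ∧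
        homMult T.subtype χ ψ = 1 ∧
        ∀ χ', homMult T.subtype χ' ψ ≠ 0 → χ' = χ := by
    intro ψ hψ hψo
    obtain ⟨χ, ho, h1, hu⟩ := exists_clifford_up Q θ T hTdef hQT ψ hψo
    refine ⟨χ, (irrPerm_fixed_iff φ χ).mp fun a => hu _ ?_, ho, h1, hu⟩
    rw [← irrPerm_eq_self hψ a, homMult_perm T.subtype φ φT (fun _ _ => rfl), h1]
    exact one_ne_zero
  -- the Clifford correspondences in `C`
  let NC := Q.subgroupOf C
  haveI : NC.Normal := Subgroup.normal_subgroupOf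
  let eC : NC ≃* Q := Subgroup.subgroupOfEquivOfLe hQC
  let θC : IrrCharacter NC := irrComap eC θ
  let DC := T.subgroupOf C
  have hDC : DC = CharExt.inertia NC (θC : NC → ℂ) := by
    ext c
    show (c : K) ∈ T ↔ _
    rw [hTdef, CharExt.mem_inertia, CharExt.mem_inertia]
    constructor
    · exact fun hc => funext fun n => congrFun hc (eC n)
    · intro hc
      funext q
      have := congrFun hc (eC.symm q)
      show (θ : Q → ℂ) _ = _
      have h2 : eC (eC.symm q) = q := eC.apply_symm_apply q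
      rw [← h2]
      exact this
  have hNDC : NC ≤ DC := fun c hc => hQT hc
  let eD : D ≃* DC :=
    { toFun := fun d => ⟨⟨((d : T) : K), d.2⟩, (d : T).2⟩
      invFun := fun d => ⟨⟨((d : C) : K), d.2⟩, (d : C).2⟩
      left_inv := fun _ => rfl
      right_inv := fun _ => rfl
      map_mul' := fun _ _ => rfl }
  have hoverC : ∀ ξ : IrrCharacter C,
      homMult NC.subtype ξ θC = homMult (Subgroup.inclusion hQC) ξ θ := fun ξ => by
    rw [← homMult_comp_equiv (Subgroup.inclusion hQC) eC ξ θ]; rfl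
  have hoverDC : ∀ η : IrrCharacter D,
      homMult (Subgroup.inclusion hNDC) (irrComap eD.symm η) θC = homMult iQD η θ := fun η => by
    rw [← homMult_comp_equiv iQD eC η θ]; rfl
  have hjC : ∀ (ξ : IrrCharacter C) (η : IrrCharacter D),
      homMult DC.subtype ξ (irrComap eD.symm η) = homMult jC ξ η := fun ξ η => by
    rw [← homMult_comp_equiv jC eD.symm ξ η]; rfl
  have downC : ∀ ξ : IrrCharacter C, InvFun φC (ξ : C → ℂ) →
      homMult (Subgroup.inclusion hQC) ξ θ ≠ 0 →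
      ∃ η : IrrCharacter D, InvFun φD (η : D → ℂ) ∧ homMult iQD η θ ≠ 0 ∧
        homMult jC ξ η = 1 ∧
        ∀ η', homMult iQD η' θ ≠ 0 → homMult jC ξ η' ≠ 0 → η' = η := by
    intro ξ hξ hξo
    obtain ⟨η₀, ho, h1, hu, -⟩ :=
      exists_clifford_down NC θC DC hDC hNDC ξ (by rw [hoverC]; exact hξo)
    obtain ⟨η, rfl⟩ : ∃ η, irrComap eD.symm η = η₀ :=
      ⟨irrComap eD η₀, irrComap_symm_irrComap eD.symm η₀⟩
    rw [hoverDC] at ho
    rw [hjC] at h1
    have hu' : ∀ η', homMult iQD η' θ ≠ 0 → homMult jC ξ η' ≠ 0 → η' = η := fun η' a b => by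
      have := hu (irrComap eD.symm η') (by rw [hoverDC]; exact a) (by rw [hjC]; exact b)
      rw [← irrComap_symm_irrComap eD η', this, irrComap_symm_irrComap]
    refine ⟨η, (irrPerm_fixed_iff φD η).mp fun a => hu' _ ?_ ?_, ho, h1, hu'⟩
    · rw [← irrPerm_eq_self hθ a, homMult_perm iQD φD _ (fun _ _ => rfl)]
      exact ho
    · rw [← irrPerm_eq_self hξ a, homMult_perm jC φC φD (fun _ _ => rfl), h1]
      exact one_ne_zero
  have upC : ∀ η : IrrCharacter D, InvFun φD (η : D → ℂ) → homMult iQD η θ ≠ 0 →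
      ∃ ξ : IrrCharacter C, InvFun φC (ξ : C → ℂ) ∧ homMult (Subgroup.inclusion hQC) ξ θ ≠ 0 ∧
        homMult jC ξ η = 1 ∧ ∀ ξ', homMult jC ξ' η ≠ 0 → ξ' = ξ := by
    intro η hη hηo
    obtain ⟨ξ, ho, h1, hu⟩ :=
      exists_clifford_up NC θC DC hDC hNDC (irrComap eD.symm η) (by rw [hoverDC]; exact hηo)
    rw [hoverC] at ho
    rw [hjC] at h1
    have hu' : ∀ ξ', homMult jC ξ' η ≠ 0 → ξ' = ξ := fun ξ' a => hu ξ' (by rw [hjC]; exact a)
    refine ⟨ξ, (irrPerm_fixed_iff φC ξ).mp fun a => hu' _ ?_, ho, h1, hu'⟩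
    rw [← irrPerm_eq_self hη a, homMult_perm jC φC φD (fun _ _ => rfl), h1]
    exact one_ne_zero
  -- multiplicities agree
  have formula : ∀ (χ : IrrCharacter K) (ψ : IrrCharacter T) (ξ : IrrCharacter C)
      (η : IrrCharacter D), homMult iQD η θ ≠ 0 → homMult T.subtype χ ψ = 1 →
      (∀ ψ', homMult iQT ψ' θ ≠ 0 → homMult T.subtype χ ψ' ≠ 0 → ψ' = ψ) →
      InvFun φD (η : D → ℂ) → homMult jC ξ η = 1 →
      homMult C.subtype χ ξ = homMult D.subtype ψ η := by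
    intro χ ψ ξ η hηo hψ1 hψu hη hξ1
    letI := Fintype.ofFinite T
    letI := Fintype.ofFinite C
    obtain ⟨ξ₀, -, -, -, hξu⟩ := upC η hη hηo
    have e1 : homMult (T.subtype.comp D.subtype) χ η = homMult D.subtype ψ η := by
      rw [homMult_comp, Finset.sum_eq_single ψ]
      · rw [hψ1, one_mul]
      · intro ψ' _ hne
        by_contra h0
        obtain ⟨h0a, h0b⟩ := Nat.mul_ne_zero_iff.mp h0
        refine hne (hψu ψ' ?_ h0a)
        exact homMult_comp_ne_zero (f := D.subtype) (g := iQD) h0b hηo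
      · exact fun hn => absurd (Finset.mem_univ ψ) hn
    have e2 : homMult (C.subtype.comp jC) χ η = homMult C.subtype χ ξ := by
      rw [homMult_comp, Finset.sum_eq_single ξ]
      · rw [hξ1, mul_one]
      · intro ξ' _ hne
        by_contra h0
        obtain ⟨-, h0b⟩ := Nat.mul_ne_zero_iff.mp h0
        exact hne ((hξu ξ' h0b).trans (hξu ξ (by rw [hξ1]; exact one_ne_zero)).symm)
      · exact fun hn => absurd (Finset.mem_univ ξ) hn
    rw [← e1, ← e2]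
    rfl
  refine ⟨fun χ hχ => ?_, fun ξ hξ => ?_, fun χ ξ ξ' hχ hξ hξ' hm hm' => ?_,
    fun χ χ' ξ hχ hχ' hξ hm hm' => ?_, fun χ ξ hχ hξ hm => ?_⟩
  · obtain ⟨ψ, hψ, hψo, hψ1, hψu⟩ := downK χ hχ.1 hχ.2
    obtain ⟨η, ⟨hη, hηo⟩, hm⟩ := MT.exists_left ψ ⟨hψ, by rw [hoverT]; exact hψo⟩
    rw [hoverD] at hηo
    obtain ⟨ξ, hξ, hξo, hξ1, -⟩ := upC η hη hηo
    exact ⟨ξ, ⟨hξ, hξo⟩, by rw [formula χ ψ ξ η hηo hψ1 hψu hη hξ1]; exact hm⟩
  · obtain ⟨η, hη, hηo, hξ1, -⟩ := downC ξ hξ.1 hξ.2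
    obtain ⟨ψ, ⟨hψ, hψo⟩, hm⟩ := MT.exists_right η ⟨hη, by rw [hoverD]; exact hηo⟩
    rw [hoverT] at hψo
    obtain ⟨χ, hχ, hχo, hψ1, -⟩ := upK ψ hψ hψo
    obtain ⟨ψ₀, -, -, -, hψu⟩ := downK χ hχ hχo
    cases hψu ψ hψo (by rw [hψ1]; exact one_ne_zero)
    exact ⟨χ, ⟨hχ, hχo⟩, by rw [formula χ ψ ξ η hηo hψ1 hψu hη hξ1]; exact hm⟩
  · obtain ⟨ψ, hψ, hψo, hψ1, hψu⟩ := downK χ hχ.1 hχ.2
    obtain ⟨η, hη, hηo, hξ1, -⟩ := downC ξ hξ.1 hξ.2
    obtain ⟨η', hη', hηo', hξ1', -⟩ := downC ξ' hξ'.1 hξ'.2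
    rw [formula χ ψ ξ η hηo hψ1 hψu hη hξ1] at hm
    rw [formula χ ψ ξ' η' hηo' hψ1 hψu hη' hξ1'] at hm'
    cases MT.unique_right ψ η η' ⟨hψ, by rw [hoverT]; exact hψo⟩ ⟨hη, by rw [hoverD]; exact hηo⟩
      ⟨hη', by rw [hoverD]; exact hηo'⟩ hm hm'
    obtain ⟨ξ₀, -, -, -, hξu⟩ := upC η hη hηo
    exact (hξu ξ (by rw [hξ1]; exact one_ne_zero)).trans
      (hξu ξ' (by rw [hξ1']; exact one_ne_zero)).symm
  · obtain ⟨ψ, hψ, hψo, hψ1, hψu⟩ := downK χ hχ.1 hχ.2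
    obtain ⟨ψ', hψ', hψo', hψ1', hψu'⟩ := downK χ' hχ'.1 hχ'.2
    obtain ⟨η, hη, hηo, hξ1, -⟩ := downC ξ hξ.1 hξ.2
    rw [formula χ ψ ξ η hηo hψ1 hψu hη hξ1] at hm
    rw [formula χ' ψ' ξ η hηo hψ1' hψu' hη hξ1] at hm'
    cases MT.unique_left ψ ψ' η ⟨hψ, by rw [hoverT]; exact hψo⟩ ⟨hψ', by rw [hoverT]; exact hψo'⟩
      ⟨hη, by rw [hoverD]; exact hηo⟩ hm hm'
    obtain ⟨χ₀, -, -, -, hχu⟩ := upK ψ hψ hψo
    exact (hχu χ (by rw [hψ1]; exact one_ne_zero)).trans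
      (hχu χ' (by rw [hψ1']; exact one_ne_zero)).symm
  · obtain ⟨ψ, hψ, hψo, hψ1, hψu⟩ := downK χ hχ.1 hχ.2
    obtain ⟨η, hη, hηo, hξ1, -⟩ := downC ξ hξ.1 hξ.2
    rw [formula χ ψ ξ η hηo hψ1 hψu hη hξ1] at hm ⊢
    exact MT.sign ψ η ⟨hψ, by rw [hoverT]; exact hψo⟩ ⟨hη, by rw [hoverD]; exact hηo⟩ hm

/-- The relative correspondence between invariant characters. -/
theorem RelFixed.matching (h : RelFixed p φ Q C) :
    Matching p (fun χ : IrrCharacter K => InvFun φ (χ : K → ℂ))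
      (fun ξ : IrrCharacter C => InvFun (subAut φ C fun a _ hk => h.fixed_map_mem a hk) (ξ : C → ℂ))
      (homMult C.subtype) := by
  classical
  haveI := h.normal
  set φC := subAut φ C fun a _ hk => h.fixed_map_mem a hk
  have hCinv : ∀ ξ : IrrCharacter C, InvFun φC (ξ : C → ℂ) →
      ∃ θ : IrrCharacter Q, InvFun (subAut φ Q fun a _ hk => h.map_mem a hk) (θ : Q → ℂ) ∧
        homMult (Subgroup.inclusion h.le_fixed) ξ θ ≠ 0 := by
    intro ξ hξ
    have hr := h.restrict (fun a _ hk => h.fixed_map_mem a hk) h.le_fixed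
    obtain ⟨θ', hθ', ho⟩ := hr.exists_inv_constituent ξ hξ
    let eC : Q.subgroupOf C ≃* Q := Subgroup.subgroupOfEquivOfLe h.le_fixed
    refine ⟨irrComap eC.symm θ', fun a q => hθ' a (eC.symm q), ?_⟩
    rw [← irrComap_symm_irrComap eC θ'] at ho
    rw [← homMult_comp_equiv (Subgroup.inclusion h.le_fixed) eC ξ (irrComap eC.symm θ')]
    exact ho
  have hup : ∀ (χ : IrrCharacter K) (ξ : IrrCharacter C) (θ : IrrCharacter Q),
      ¬ p ∣ homMult C.subtype χ ξ → homMult (Subgroup.inclusion h.le_fixed) ξ θ ≠ 0 →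
      homMult Q.subtype χ θ ≠ 0 := fun χ ξ θ hm ho =>
    homMult_comp_ne_zero (f := C.subtype) (g := Subgroup.inclusion h.le_fixed)
      (fun h0 => hm (h0 ▸ dvd_zero p)) ho
  refine ⟨fun χ hχ => ?_, fun ξ hξ => ?_, fun χ ξ ξ' hχ hξ hξ' hm hm' => ?_,
    fun χ χ' ξ hχ hχ' hξ hm hm' => ?_, fun χ ξ hχ hξ hm => ?_⟩
  · obtain ⟨θ, hθ, ho⟩ := h.exists_inv_constituent χ hχ
    obtain ⟨ξ, hξ, hm⟩ := (h.matching_over θ hθ).exists_left χ ⟨hχ, ho⟩
    exact ⟨ξ, hξ.1, hm⟩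
  · obtain ⟨θ, hθ, ho⟩ := hCinv ξ hξ
    obtain ⟨χ, hχ, hm⟩ := (h.matching_over θ hθ).exists_right ξ ⟨hξ, ho⟩
    exact ⟨χ, hχ.1, hm⟩
  · obtain ⟨θ, hθ, ho⟩ := hCinv ξ hξ
    obtain ⟨θ', hθ', ho'⟩ := hCinv ξ' hξ'
    have hχo := hup χ ξ θ hm ho
    obtain ⟨c, hc, he⟩ := h.exists_conj_fixed χ θ θ' hθ hθ' hχo (hup χ ξ' θ' hm' ho')
    refine (h.matching_over θ hθ).unique_right χ ξ ξ' ⟨hχ, hχo⟩ ⟨hξ, ho⟩ ⟨hξ', fun h0 => ho' ?_⟩
      hm hm'
    letI := Fintype.ofFinite C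
    letI := Fintype.ofFinite Q
    have h1 := classInner_comp_eq_homMult (Subgroup.inclusion h.le_fixed) ξ' θ'
    have h2 := classInner_comp_eq_homMult (Subgroup.inclusion h.le_fixed) ξ' θ
    rw [h0, Nat.cast_zero] at h2
    suffices (homMult (Subgroup.inclusion h.le_fixed) ξ' θ' : ℂ) = 0 by exact_mod_cast this
    rw [← h1, ← h2, ← he, ← CharInd.classInner_conjChar Q c (fun q : Q =>
      (ξ' : C → ℂ) (Subgroup.inclusion h.le_fixed q)) (θ : Q → ℂ)]
    congr 1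
    funext q
    rw [CharInd.conjChar_apply]
    exact (irr_isClassFunction ξ'.2 (Subgroup.inclusion h.le_fixed q) ⟨c, hc⟩).symm
  · obtain ⟨θ, hθ, ho⟩ := hCinv ξ hξ
    exact (h.matching_over θ hθ).unique_left χ χ' ξ ⟨hχ, hup χ ξ θ hm ho⟩
      ⟨hχ', hup χ' ξ θ hm' ho⟩ ⟨hξ, ho⟩ hm hm'
  · obtain ⟨θ, hθ, ho⟩ := hCinv ξ hξ
    exact (h.matching_over θ hθ).sign χ ξ ⟨hχ, hup χ ξ θ hm ho⟩ ⟨hξ, ho⟩ hm

/-- The degree of an invariant character is congruent to its multiplicity times the degree of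
its correspondent. -/
theorem RelFixed.degree_congr (h : RelFixed p φ Q C) (χ : IrrCharacter K) (ξ : IrrCharacter C)
    (hχ : InvFun φ (χ : K → ℂ))
    (hξ : InvFun (subAut φ C fun a _ hk => h.fixed_map_mem a hk) (ξ : C → ℂ))
    (hm : ¬ p ∣ homMult C.subtype χ ξ) :
    Congr p ((χ : K → ℂ) 1) ((homMult C.subtype χ ξ : ℂ) * (ξ : C → ℂ) 1) := by
  classical
  letI := Fintype.ofFinite C
  set φC := subAut φ C fun a _ hk => h.fixed_map_mem a hk
  have hsum := sum_congr_fixed h.isPGroupA (irrPerm φC)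
    (fun η : IrrCharacter C => (homMult C.subtype χ η : ℂ) * (η : C → ℂ) 1)
    (fun η => (isIntegral_of_nat _).mul (irr_isIntegral η 1)) (fun a η => by
      show (homMult C.subtype χ (irrPerm φC a η) : ℂ) * (η : C → ℂ) (φC a⁻¹ 1) = _
      rw [map_one]
      congr 2
      conv_lhs => rw [← irrPerm_eq_self hχ a]
      exact homMult_perm C.subtype φ φC (fun _ _ => rfl) a χ η)
  refine ((Congr.of_eq ?_).trans hsum).trans ?_
  · have h1 := congrFun (comp_eq_sum_homMult C.subtype χ) 1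
    rw [Finset.sum_apply] at h1
    refine Eq.trans ?_ (h1.trans (Finset.sum_congr rfl fun η _ => rfl))
    show (χ : K → ℂ) 1 = (χ : K → ℂ) (C.subtype 1)
    rw [map_one]
  rw [← Finset.add_sum_erase _ _ (Finset.mem_filter.mpr
    ⟨Finset.mem_univ ξ, (irrPerm_fixed_iff φC ξ).mpr hξ⟩)]
  refine ((Congr.refl _).add ((Congr.sum _ fun η hη => ?_).trans
    (Congr.of_eq Finset.sum_const_zero))).trans (Congr.of_eq (add_zero _))
  refine Congr.natMul_zero (irr_isIntegral η 1) (by_contra fun hn => Finset.ne_of_mem_erase hη ?_)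
  exact h.matching.unique_right χ η ξ hχ
    ((irrPerm_fixed_iff φC η).mp (Finset.mem_filter.mp (Finset.mem_of_mem_erase hη)).2) hξ hn hm

end Cfsg.Agent.GlauberCorr
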