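import Cfsg.Agent.GlauberCorr.HomMult

/-!
# A `p`-group acting on a group with a normal Sylow `p`-subgroup
-/

set_option autoImplicit false
set_option linter.style.haveILetI false

open scoped ComplexConjugate

namespace Cfsg.Agent.GlauberCorr

open Cfsg.Agent.Char

universe u v

variable {K : Type u} [Group K]

/-- `p`-group `A` acting on `K`; `Q` the normal Sylow subgroup, `C` the fixed points modulo `Q`. -/
structure RelFixed (p : ℕ) {A : Type v} [Group A] (φ : A →* MulAut K) (Q C : Subgroup K) : Prop where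
  isPGroupA : IsPGroup p A
  normal : Q.Normal
  isPGroupQ : IsPGroup p Q
  not_dvd : ¬ p ∣ Q.index
  mem_iff : ∀ k, k ∈ C ↔ ∀ a, φ a k * k⁻¹ ∈ Q

/-- Invariance of a function under an action by automorphisms. -/
def InvFun {A : Type v} [Group A] (φ : A →* MulAut K) (f : K → ℂ) : Prop :=
  ∀ a k, f (φ a k) = f k

/-- The restriction of an action to an invariant subgroup. -/
def subAut {A : Type v} [Group A] (φ : A →* MulAut K) (H : Subgroup K)
    (hH : ∀ a, ∀ k ∈ H, φ a k ∈ H) : A →* MulAut H where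
  toFun a :=
    { toFun := fun k => ⟨φ a k, hH a k k.2⟩
      invFun := fun k => ⟨φ a⁻¹ k, hH a⁻¹ k k.2⟩
      left_inv := fun k => Subtype.ext (by
        show φ a⁻¹ (φ a (k : K)) = k
        rw [← MulAut.mul_apply, ← map_mul, inv_mul_cancel, map_one, MulAut.one_apply])
      right_inv := fun k => Subtype.ext (by
        show φ a (φ a⁻¹ (k : K)) = k
        rw [← MulAut.mul_apply, ← map_mul, mul_inv_cancel, map_one, MulAut.one_apply])
      map_mul' := fun x y => Subtype.ext (map_mul (φ a) (x : K) y) }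
  map_one' := MulEquiv.ext fun k => Subtype.ext (by simp)
  map_mul' a b := MulEquiv.ext fun k => Subtype.ext (by simp)

@[simp] theorem subAut_coe {A : Type v} [Group A] (φ : A →* MulAut K) (H : Subgroup K)
    (hH : ∀ a, ∀ k ∈ H, φ a k ∈ H) (a : A) (k : H) : (subAut φ H hH a k : K) = φ a k := rfl

theorem homMult_perm {A : Type v} [Group A] [Finite K] {H : Type u} [Group H] [Finite H]
    (f : H →* K) (φG : A →* MulAut K) (φH : A →* MulAut H)
    (hcomm : ∀ a h, f (φH a h) = φG a (f h)) (a : A) (χ : IrrCharacter K) (ξ : IrrCharacter H) :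
    homMult f (irrPerm φG a χ) (irrPerm φH a ξ) = homMult f χ ξ := by
  letI := Fintype.ofFinite H
  refine homMult_eq_of_classInner ?_
  rw [← classInner_comp_eq_homMult]
  refine Eq.trans ?_ (classInner_comp_surjective (φH a⁻¹).toMonoidHom (φH a⁻¹).surjective _ _)
  congr 1
  funext h
  show (χ : K → ℂ) (φG a⁻¹ (f h)) = (χ : K → ℂ) (f (φH a⁻¹ h))
  rw [hcomm]

theorem irrPerm_eq_self {A : Type v} [Group A] [Finite K] {φ : A →* MulAut K} {χ : IrrCharacter K}
    (h : InvFun φ (χ : K → ℂ)) (a : A) : irrPerm φ a χ = χ :=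
  (irrPerm_fixed_iff φ χ).mpr h a

/-- Transport of irreducible characters along an isomorphism. -/
noncomputable def irrComap [Finite K] {H : Type u} [Group H] (e : H ≃* K) (χ : IrrCharacter K) :
    IrrCharacter H :=
  ⟨fun h => (χ : K → ℂ) (e h), isIrrCharacter_comp χ.2 e.toMonoidHom e.surjective⟩

theorem irrComap_coe [Finite K] {H : Type u} [Group H] (e : H ≃* K) (χ : IrrCharacter K) (h : H) :
    (irrComap e χ : H → ℂ) h = (χ : K → ℂ) (e h) := rfl

theorem homMult_comp_equiv [Finite K] {H L : Type u} [Group H] [Finite H] [Group L] [Finite L]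
    (f : H →* K) (e : L ≃* H) (χ : IrrCharacter K) (η : IrrCharacter H) :
    homMult (f.comp e.toMonoidHom) χ (irrComap e η) = homMult f χ η := by
  letI := Fintype.ofFinite H
  letI := Fintype.ofFinite L
  refine homMult_eq_of_classInner ?_
  rw [← classInner_comp_eq_homMult]
  exact classInner_comp_surjective e.toMonoidHom e.surjective (fun h => (χ : K → ℂ) (f h)) _

namespace RelFixed

variable {A : Type v} [Group A] {p : ℕ} [hp : Fact p.Prime] {φ : A →* MulAut K} {Q C : Subgroup K}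

theorem map_mem [Finite K] (h : RelFixed p φ Q C) (a : A) {q : K} (hq : q ∈ Q) : φ a q ∈ Q := by
  haveI := h.normal
  rw [← QuotientGroup.eq_one_iff, ← orderOf_eq_one_iff]
  obtain ⟨k, hk⟩ := h.isPGroupQ ⟨q, hq⟩
  have hk' : q ^ p ^ k = 1 := congrArg Subtype.val hk
  have h1 : orderOf ((φ a q : K) : K ⧸ Q) ∣ p ^ k := orderOf_dvd_of_pow_eq_one (by
    rw [← QuotientGroup.mk_pow, ← map_pow, hk', map_one, QuotientGroup.mk_one])
  have h2 : orderOf ((φ a q : K) : K ⧸ Q) ∣ Q.index := orderOf_dvd_natCard _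
  exact Nat.eq_one_of_dvd_coprimes ((coprime_of_not_dvd h.not_dvd).pow_left k) h1 h2

theorem le_fixed [Finite K] (h : RelFixed p φ Q C) : Q ≤ C := fun q hq =>
  (h.mem_iff q).mpr fun a => Q.mul_mem (h.map_mem a hq) (Q.inv_mem hq)

theorem fixed_map_mem [Finite K] (h : RelFixed p φ Q C) (b : A) {k : K} (hk : k ∈ C) :
    φ b k ∈ C := by
  refine (h.mem_iff _).mpr fun a => ?_
  have h1 := h.map_mem b ((h.mem_iff k).mp hk (b⁻¹ * a * b))
  rw [map_mul, map_inv, ← MulAut.mul_apply, ← map_mul, show b * (b⁻¹ * a * b) = a * b by group,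
    map_mul, MulAut.mul_apply] at h1
  exact h1

theorem map_conj [Finite K] (h : RelFixed p φ Q C) (θ : Q → ℂ)
    (hθ : InvFun (subAut φ Q fun a _ hk => h.map_mem a hk) θ) (a : A) (g : K) :
    haveI := h.normal
    ∀ q : Q, CharInd.conjChar Q (φ a g) θ q =
      CharInd.conjChar Q g θ (subAut φ Q (fun a _ hk => h.map_mem a hk) a⁻¹ q) := by
  haveI := h.normal
  intro q
  rw [CharInd.conjChar_apply, CharInd.conjChar_apply]
  conv_rhs => rw [← hθ a]
  congr 1
  refine Subtype.ext ?_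
  show φ a g * q * (φ a g)⁻¹ = φ a (g * φ a⁻¹ (q : K) * g⁻¹)
  simp

theorem inertia_map_mem [Finite K] (h : RelFixed p φ Q C) (θ : Q → ℂ)
    (hθ : InvFun (subAut φ Q fun a _ hk => h.map_mem a hk) θ) :
    haveI := h.normal
    ∀ a : A, ∀ g ∈ CharExt.inertia Q θ, φ a g ∈ CharExt.inertia Q θ := by
  haveI := h.normal
  intro a g hg
  rw [CharExt.mem_inertia] at hg ⊢
  funext q
  rw [h.map_conj θ hθ a g q, hg]
  exact hθ a⁻¹ q

/-- Restriction to an invariant subgroup containing `Q`. -/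
theorem restrict [Finite K] (h : RelFixed p φ Q C) {H : Subgroup K}
    (hH : ∀ a, ∀ k ∈ H, φ a k ∈ H) (hQH : Q ≤ H) :
    RelFixed p (subAut φ H hH) (Q.subgroupOf H) (C.subgroupOf H) where
  isPGroupA := h.isPGroupA
  normal := haveI := h.normal; Subgroup.normal_subgroupOf
  isPGroupQ := h.isPGroupQ.of_equiv (Subgroup.subgroupOfEquivOfLe hQH).symm
  not_dvd := fun hd => h.not_dvd
    (hd.trans (haveI := h.normal; Subgroup.relIndex_dvd_index_of_normal Q H))
  mem_iff := fun k => by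
    rw [Subgroup.mem_subgroupOf, h.mem_iff]
    rfl

/-- An invariant character has an invariant constituent on `Q`. -/
theorem exists_inv_constituent [Finite K] (h : RelFixed p φ Q C) (χ : IrrCharacter K)
    (hχ : InvFun φ (χ : K → ℂ)) :
    ∃ θ : IrrCharacter Q, InvFun (subAut φ Q fun a _ hk => h.map_mem a hk) (θ : Q → ℂ) ∧
      homMult Q.subtype χ θ ≠ 0 := by
  classical
  haveI := h.normal
  letI := Fintype.ofFinite K
  letI := Fintype.ofFinite Q
  haveI : NeZero p := ⟨hp.out.ne_zero⟩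
  set ψ := subAut φ Q fun a _ hk => h.map_mem a hk with hψ
  let f : IrrCharacter Q → ℂ := fun θ => if homMult Q.subtype χ θ ≠ 0 then 1 else 0
  have hf : ∀ a θ, f (irrPerm ψ a θ) = f θ := by
    intro a θ
    simp only [f]
    conv_lhs => rw [← irrPerm_eq_self hχ a, homMult_perm Q.subtype φ ψ (fun _ _ => rfl)]
  have hsum := sum_congr_fixed h.isPGroupA (irrPerm ψ) f
    (fun θ => by simp only [f]; split_ifs <;> [exact isIntegral_one; exact isIntegral_zero]) hf
  by_contra hcon
  push Not at hcon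
  have hzero : (∑ θ with (∀ a, irrPerm ψ a θ = θ), f θ) = 0 := Finset.sum_eq_zero fun θ hθ =>
    if_neg (not_not.mpr (hcon θ ((irrPerm_fixed_iff ψ θ).mp (Finset.mem_filter.mp hθ).2)))
  rw [hzero] at hsum
  simp only [f, Finset.sum_boole] at hsum
  obtain ⟨θ₀, n, hn, hθ₀⟩ := exists_irr_constituent
    (CharInd.isCharacter_res Q (isCharacter_of_irr χ.2))
    (fun h0 => irr_one_ne_zero χ.2 (congrFun h0 (1 : Q)))
  have hT := Subgroup.index_dvd_of_le (CharExt.le_inertia Q (irr_isClassFunction θ₀.2))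
  refine h.not_dvd ((Congr.nat_dvd (p := p) (n := (CharExt.inertia Q (θ₀ : Q → ℂ)).index) ?_).trans hT)
  refine (Congr.of_eq ?_).trans hsum
  congr 1
  rw [← CharExt.card_conjClass, ← Finset.card_image_of_injective
    (Finset.univ.filter fun θ : IrrCharacter Q => homMult Q.subtype χ θ ≠ 0) Subtype.val_injective]
  congr 1
  have hc0 : classInner (fun r : Q => (χ : K → ℂ) r) (θ₀ : Q → ℂ) ≠ 0 := by
    rw [hθ₀]; exact_mod_cast hn.ne'
  ext η
  simp only [Finset.mem_image, Finset.mem_filter, Finset.mem_univ, true_and]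
  constructor
  · intro hη
    obtain ⟨x, hx⟩ := (CharInd.mem_conjClass Q).mp hη
    refine ⟨⟨η, hx ▸ CharInd.conjChar_irr Q x θ₀.2⟩, fun h0 => hc0 ?_, rfl⟩
    have h1 := classInner_comp_eq_homMult Q.subtype χ ⟨η, hx ▸ CharInd.conjChar_irr Q x θ₀.2⟩
    rw [h0, Nat.cast_zero] at h1
    rw [← CharInd.classInner_res_conjChar Q (irr_isClassFunction χ.2) x (θ₀ : Q → ℂ), ← hx]
    exact h1
  · rintro ⟨θ, hθ, rfl⟩
    refine CharExt.mem_conjClass_of_constituent Q χ.2 θ₀.2 θ.2 hc0 ?_
    rw [show (fun r : Q => (χ : K → ℂ) r) = fun r : Q => (χ : K → ℂ) (Q.subtype r) from rfl,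
      classInner_comp_eq_homMult]
    exact_mod_cast hθ

/-- Invariant constituents of an invariant character are conjugate in `C`. -/
theorem exists_conj_fixed [Finite K] (h : RelFixed p φ Q C) (χ : IrrCharacter K)
    (θ θ' : IrrCharacter Q)
    (hθ : InvFun (subAut φ Q fun a _ hk => h.map_mem a hk) (θ : Q → ℂ))
    (hθ' : InvFun (subAut φ Q fun a _ hk => h.map_mem a hk) (θ' : Q → ℂ))
    (ho : homMult Q.subtype χ θ ≠ 0) (ho' : homMult Q.subtype χ θ' ≠ 0) :
    haveI := h.normal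
    ∃ c ∈ C, CharInd.conjChar Q c (θ : Q → ℂ) = (θ' : Q → ℂ) := by
  classical
  haveI := h.normal
  letI := Fintype.ofFinite K
  letI := Fintype.ofFinite Q
  letI := Fintype.ofFinite (K ⧸ Q)
  haveI : NeZero p := ⟨hp.out.ne_zero⟩
  have hne : ∀ η : IrrCharacter Q, homMult Q.subtype χ η ≠ 0 →
      classInner (fun r : Q => (χ : K → ℂ) r) (η : Q → ℂ) ≠ 0 := by
    intro η hη
    rw [show (fun r : Q => (χ : K → ℂ) r) = fun r : Q => (χ : K → ℂ) (Q.subtype r) from rfl,
      classInner_comp_eq_homMult]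
    exact_mod_cast hη
  obtain ⟨g, hg⟩ := (CharInd.mem_conjClass Q).mp
    (CharExt.mem_conjClass_of_constituent Q χ.2 θ.2 θ'.2 (hne θ ho) (hne θ' ho'))
  set T := CharExt.inertia Q (θ : Q → ℂ) with hTdef
  have hQT : Q ≤ T := CharExt.le_inertia Q (irr_isClassFunction θ.2)
  have hiff : ∀ k : K, CharInd.conjChar Q k (θ : Q → ℂ) = (θ' : Q → ℂ) ↔ k * g⁻¹ ∈ T := by
    intro k
    rw [hg, CharExt.mem_inertia, CharInd.conjChar_mul]
    refine ⟨fun h1 => by rw [h1, ← CharInd.conjChar_mul, mul_inv_cancel, CharInd.conjChar_one],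
      fun h1 => ?_⟩
    conv_rhs => rw [← h1]
    rw [← CharInd.conjChar_mul, ← CharInd.conjChar_mul, inv_mul_cancel, mul_one]
  have hga : ∀ a, φ a g * g⁻¹ ∈ T := fun a => (hiff _).mp (funext fun q => by
    rw [h.map_conj (θ : Q → ℂ) hθ a g q, ← hg, hθ'])
  let σ : A →* Equiv.Perm (K ⧸ Q) :=
    { toFun := fun a =>
        (QuotientGroup.congr Q Q (φ a) (le_antisymm
          (Subgroup.map_le_iff_le_comap.mpr fun q hq => h.map_mem a hq)
          fun q hq => ⟨φ a⁻¹ q, h.map_mem a⁻¹ hq, by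
            show φ a (φ a⁻¹ q) = q
            rw [← MulAut.mul_apply, ← map_mul, mul_inv_cancel, map_one, MulAut.one_apply]⟩)).toEquiv
      map_one' := Equiv.ext fun x => by
        induction x using QuotientGroup.induction_on with
        | H k =>
          show ((φ (1 : A) k : K) : K ⧸ Q) = (k : K ⧸ Q)
          rw [map_one, MulAut.one_apply]
      map_mul' := fun a b => Equiv.ext fun x => by
        induction x using QuotientGroup.induction_on with
        | H k =>
          show ((φ (a * b) k : K) : K ⧸ Q) = ((φ a (φ b k) : K) : K ⧸ Q)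
          rw [map_mul, MulAut.mul_apply] }
  let Tb : Subgroup (K ⧸ Q) := T.map (QuotientGroup.mk' Q)
  have hTb : ∀ k : K, (k : K ⧸ Q) ∈ Tb ↔ k ∈ T := by
    intro k
    refine ⟨fun hk => ?_, fun hk => ⟨k, hk, rfl⟩⟩
    obtain ⟨t, ht, he⟩ := hk
    have h1 : t⁻¹ * k ∈ Q := QuotientGroup.eq.mp he
    have := T.mul_mem ht (hQT h1)
    simpa using this
  let f : K ⧸ Q → ℂ := fun x => if x * (g : K ⧸ Q)⁻¹ ∈ Tb then 1 else 0
  have hf : ∀ a x, f (σ a x) = f x := by
    intro a x
    induction x using QuotientGroup.induction_on with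
    | H k =>
      refine if_congr ?_ rfl rfl
      show ((φ a k : K) : K ⧸ Q) * (g : K ⧸ Q)⁻¹ ∈ Tb ↔ _
      rw [← QuotientGroup.mk_inv, ← QuotientGroup.mk_mul, ← QuotientGroup.mk_mul, hTb, hTb,
        show φ a k * g⁻¹ = φ a (k * g⁻¹) * (φ a g * g⁻¹) by rw [map_mul, map_inv]; group,
        Subgroup.mul_mem_cancel_right _ (hga a)]
      refine ⟨fun h1 => ?_, fun h1 => h.inertia_map_mem _ hθ a _ h1⟩
      have h2 := h.inertia_map_mem _ hθ a⁻¹ _ h1
      rwa [← MulAut.mul_apply, ← map_mul, inv_mul_cancel, map_one, MulAut.one_apply] at h2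
  have hsum := sum_congr_fixed h.isPGroupA σ f
    (fun x => by simp only [f]; split_ifs <;> [exact isIntegral_one; exact isIntegral_zero]) hf
  by_contra hcon
  push Not at hcon
  have hzero : (∑ x with (∀ a, σ a x = x), f x) = 0 := Finset.sum_eq_zero fun x hx => by
    induction x using QuotientGroup.induction_on with
    | H k =>
      refine if_neg fun h1 => hcon k ((h.mem_iff k).mpr fun a => ?_) ((hiff k).mpr ((hTb _).mp h1))
      have h2 : ((φ a k : K) : K ⧸ Q) = (k : K ⧸ Q) := (Finset.mem_filter.mp hx).2 a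
      rw [← QuotientGroup.eq_one_iff, QuotientGroup.mk_mul, QuotientGroup.mk_inv, h2,
        mul_inv_cancel]
  rw [hzero] at hsum
  simp only [f, Finset.sum_boole] at hsum
  refine h.not_dvd ((Congr.nat_dvd (p := p) (n := Nat.card Tb) ?_).trans
    (Subgroup.card_subgroup_dvd_card Tb))
  refine (Congr.of_eq ?_).trans hsum
  congr 1
  rw [← Nat.card_eq_finsetCard]
  exact Nat.card_congr
    ⟨fun t => ⟨t.1 * (g : K ⧸ Q), by simp⟩,
     fun x => ⟨x.1 * (g : K ⧸ Q)⁻¹, (Finset.mem_filter.mp x.2).2⟩,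
     fun t => Subtype.ext (by simp), fun x => Subtype.ext (by simp)⟩

/-- An invariant character of `Q` fixed by all of `K` has an invariant extension. -/
theorem exists_inv_extension [Finite K] (h : RelFixed p φ Q C) (θ : IrrCharacter Q)
    (hθ : InvFun (subAut φ Q fun a _ hk => h.map_mem a hk) (θ : Q → ℂ))
    (hstab : haveI := h.normal; ∀ g : K, CharInd.conjChar Q g (θ : Q → ℂ) = (θ : Q → ℂ)) :
    ∃ χ : IrrCharacter K, InvFun φ (χ : K → ℂ) ∧ ∀ q : Q, (χ : K → ℂ) q = (θ : Q → ℂ) q := by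
  classical
  haveI := h.normal
  letI := Fintype.ofFinite K
  letI := Fintype.ofFinite Q
  obtain ⟨d, hd0, hd, hdvd⟩ := irr_degree_dvd_card θ.2
  obtain ⟨j, hj⟩ := IsPGroup.iff_card.mp h.isPGroupQ
  have hcopQ : Nat.Coprime Q.index (Nat.card Q) := by
    rw [hj]; exact ((coprime_of_not_dvd h.not_dvd).pow_left j).symm
  have hcop : Nat.Coprime Q.index d := hcopQ.coprime_dvd_right hdvd
  have hinv : ∀ (g : K) (n : Q), (θ : Q → ℂ) (CharExt.cj Q g n) = (θ : Q → ℂ) n :=
    fun g n => congrFun (hstab g) n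
  have hlin := CharExt.detChar_isLin (θ : Q → ℂ)
  let lam : Q →* ℂˣ := hlin.toHom
  have hlam : ∀ n, (lam n : ℂ) = Cfsg.detChar (θ : Q → ℂ) n := fun n =>
    CharExt.IsLin.toHom_apply hlin n
  have hlinv : ∀ (g : K) (n : Q),
      lam ⟨g * n * g⁻¹, h.normal.conj_mem (n : K) n.2 g⟩ = lam n := fun g n =>
    Units.ext (by
      rw [hlam, hlam]
      exact CharExt.detChar_inv Q (isCharacter_of_irr θ.2) hinv g n)
  have hord : orderOf lam ∣ Nat.card Q :=
    orderOf_dvd_of_pow_eq_one (MonoidHom.ext fun n => by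
      show lam n ^ Nat.card Q = 1
      rw [← map_pow, pow_card_eq_one', map_one])
  have hcl : Nat.Coprime Q.index (orderOf lam) := hcopQ.coprime_dvd_right hord
  obtain ⟨μ, ⟨hμres, hμord⟩, hμuniq⟩ := CharExt.exists_unique_coprime_extension Q lam hlinv hcl
  obtain ⟨χ, hχ, hχres, hχdet⟩ := CharExt.exists_char_extension Q (θ : Q → ℂ) θ.2 hinv d hd hcop
    (fun g => (μ g : ℂ)) (CharExt.homVal_isLin μ) (fun n => by rw [hμres, hlam])
  refine ⟨⟨χ, hχ⟩, ?_, hχres⟩
  intro a k
  have hcomp : IsCharacter K fun g => χ (φ a g) :=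
    CharInd.isCharacter_comp (φ a).toMonoidHom (isCharacter_of_irr hχ)
  have hres : ∀ n : Q, χ (φ a (n : K)) = (θ : Q → ℂ) n := fun n =>
    (hχres (subAut φ Q (fun a _ hk => h.map_mem a hk) a n)).trans (hθ a n)
  refine congrFun (CharExt.char_eq_of_restrict_eq_of_det_eq Q (θ : Q → ℂ) θ.2 d hd hcop
    (fun g => χ (φ a g)) χ hcomp (isCharacter_of_irr hχ) hres hχres ?_) k
  have hdc : ∀ g, Cfsg.detChar (fun g => χ (φ a g)) g = Cfsg.detChar χ (φ a g) := by
    intro g
    obtain ⟨n, σ, hσ, rfl⟩ := hχ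
    rw [CharExt.detChar_eq σ rfl (φ a g)]
    exact CharExt.detChar_eq
      (σ.comp (φ a).toMonoidHom : Representation ℂ K (Fin n → ℂ)) rfl g
  funext g
  rw [hdc, hχdet]
  show (μ (φ a g) : ℂ) = (μ g : ℂ)
  congr 1
  refine DFunLike.congr_fun (hμuniq (μ.comp (φ a).toMonoidHom) (fun n => ?_) ?_) g
  · refine Units.ext ?_
    show (μ (φ a (n : K)) : ℂ) = lam n
    have h1 : (μ (φ a (n : K)) : ℂ) = Cfsg.detChar χ (φ a (n : K)) :=
      (congrFun hχdet (φ a (n : K))).symm
    rw [h1, ← hdc, hlam]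
    exact CharExt.detChar_restrict Q hcomp hres n
  · refine Nat.Coprime.coprime_dvd_right (orderOf_dvd_of_pow_eq_one (MonoidHom.ext fun g => ?_))
      (hμord.symm ▸ hcl)
    show μ (φ a g) ^ orderOf μ = 1
    exact DFunLike.congr_fun (pow_orderOf_eq_one μ) (φ a g)

end RelFixed

end Cfsg.Agent.GlauberCorr
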