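import Cfsg.Agent.GlauberCorr.Setup

/-!
# The correspondence over a character of the normal Sylow subgroup fixed by the whole group
-/

set_option autoImplicit false
set_option linter.style.haveILetI false

open scoped ComplexConjugate

namespace Cfsg.Agent.GlauberCorr

open Cfsg.Agent.Char

universe u v

variable {K : Type u} [Group K] [Finite K] {A : Type v} [Group A] {p : ℕ} [hp : Fact p.Prime]
  {φ : A →* MulAut K} {Q C : Subgroup K}

theorem RelFixed.matching_stable (h : RelFixed p φ Q C) (θ : IrrCharacter Q)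
    (hθ : InvFun (subAut φ Q fun a _ hk => h.map_mem a hk) (θ : Q → ℂ))
    (hstab : haveI := h.normal; ∀ g : K, CharInd.conjChar Q g (θ : Q → ℂ) = (θ : Q → ℂ)) :
    Matching p
      (fun χ : IrrCharacter K => InvFun φ (χ : K → ℂ) ∧ homMult Q.subtype χ θ ≠ 0)
      (fun ξ : IrrCharacter C => InvFun (subAut φ C fun a _ hk => h.fixed_map_mem a hk) (ξ : C → ℂ)
        ∧ homMult (Subgroup.inclusion h.le_fixed) ξ θ ≠ 0)
      (homMult C.subtype) := by
  classical
  haveI := h.normal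
  obtain ⟨χ₀, hχ₀, hext⟩ := h.exists_inv_extension θ hθ hstab
  -- the quotient action and its fixed points
  have hmap : ∀ a, Q.map ((φ a : K ≃* K) : K →* K) = Q := fun a => le_antisymm
    (Subgroup.map_le_iff_le_comap.mpr fun q hq => h.map_mem a hq)
    fun q hq => ⟨φ a⁻¹ q, h.map_mem a⁻¹ hq, by simp⟩
  let φb : A →* MulAut (K ⧸ Q) :=
    { toFun := fun a => QuotientGroup.congr Q Q (φ a) (hmap a)
      map_one' := MulEquiv.ext fun x => by
        induction x using QuotientGroup.induction_on with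
        | H k => show ((φ (1 : A) k : K) : K ⧸ Q) = (k : K ⧸ Q); rw [map_one, MulAut.one_apply]
      map_mul' := fun a b => MulEquiv.ext fun x => by
        induction x using QuotientGroup.induction_on with
        | H k =>
          show ((φ (a * b) k : K) : K ⧸ Q) = ((φ a (φ b k) : K) : K ⧸ Q)
          rw [map_mul, MulAut.mul_apply] }
  have hφb : ∀ a (k : K), φb a (k : K ⧸ Q) = ((φ a k : K) : K ⧸ Q) := fun _ _ => rfl
  let Cb : Subgroup (K ⧸ Q) :=
    { carrier := {x | ∀ a, φb a x = x}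
      one_mem' := fun a => map_one _
      mul_mem' := fun {x y} hx hy a => by rw [map_mul, hx a, hy a]
      inv_mem' := fun {x} hx a => by rw [map_inv, hx a] }
  have hCb : ∀ k : K, (k : K ⧸ Q) ∈ Cb ↔ k ∈ C := by
    intro k
    rw [h.mem_iff]
    refine forall_congr' fun a => ?_
    rw [hφb, ← QuotientGroup.eq_one_iff, QuotientGroup.mk_mul, QuotientGroup.mk_inv,
      mul_inv_eq_one]
  let π : C →* Cb :=
    ((QuotientGroup.mk' Q).comp C.subtype).codRestrict Cb fun c => (hCb c).mpr c.2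
  have hπ : Function.Surjective π := by
    rintro ⟨x, hx⟩
    obtain ⟨k, rfl⟩ := QuotientGroup.mk_surjective x
    exact ⟨⟨k, (hCb k).mp hx⟩, rfl⟩
  set N : Subgroup C := Q.subgroupOf C with hN
  haveI : N.Normal := Subgroup.normal_subgroupOf
  have hker : N = π.ker := by
    ext c
    rw [MonoidHom.mem_ker, hN, Subgroup.mem_subgroupOf, ← QuotientGroup.eq_one_iff, Subtype.ext_iff]
    rfl
  let e : C ⧸ N ≃* Cb :=
    (QuotientGroup.quotientMulEquivOfEq hker).trans (QuotientGroup.quotientKerEquivOfSurjective π hπ)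
  have he : ∀ c : C, e (c : C ⧸ N) = π c := fun c => rfl
  let eQ : N ≃* Q := Subgroup.subgroupOfEquivOfLe h.le_fixed
  let θN : IrrCharacter N := irrComap eQ θ
  have hextN : ∀ n : N, (χ₀ : K → ℂ) ((n : C) : K) = (θN : N → ℂ) n := fun n =>
    hext ⟨((n : C) : K), n.2⟩
  let χC : IrrCharacter C := ⟨fun c => (χ₀ : K → ℂ) c,
    irr_of_restrict (N := N) (CharInd.isCharacter_comp C.subtype (isCharacter_of_irr χ₀.2))
      (by rw [show (fun n : N => (χ₀ : K → ℂ) ((n : C) : K)) = (θN : N → ℂ) from funext hextN]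
          exact θN.2)⟩
  have hextC : ∀ n : N, (χC : C → ℂ) n = (θN : N → ℂ) n := hextN
  have hover : ∀ ξ : IrrCharacter C,
      homMult N.subtype ξ θN = homMult (Subgroup.inclusion h.le_fixed) ξ θ := by
    intro ξ
    rw [← homMult_comp_equiv (Subgroup.inclusion h.le_fixed) eQ ξ θ]
    rfl
  -- building blocks
  let mkK : IrrCharacter (K ⧸ Q) → IrrCharacter K := fun β =>
    ⟨_, gallagher_irr Q θ χ₀ hext β⟩
  let mkC : IrrCharacter Cb → IrrCharacter C := fun γ =>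
    ⟨_, gallagher_irr N θN χC hextC (irrComap e γ)⟩
  have hmult : ∀ β γ, homMult C.subtype (mkK β) (mkC γ) = resMult Cb β γ := by
    intro β γ
    letI := Fintype.ofFinite C
    letI := Fintype.ofFinite Cb
    letI := Fintype.ofFinite (C ⧸ N)
    refine homMult_eq_of_classInner ?_
    rw [← classInner_res_eq_resMult, ← classInner_comp_surjective e.toMonoidHom e.surjective,
      ← gallagher_classInner N θN χC hextC]
    rfl
  have hβinv : ∀ β : IrrCharacter (K ⧸ Q), InvFun φ (mkK β : K → ℂ) ↔ InvFun φb (β : K ⧸ Q → ℂ) := by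
    intro β
    refine ⟨fun hi a x => ?_, fun hi a k => ?_⟩
    · have h1 : irrComap (φb a) β = β := by
        refine gallagher_inj Q θ χ₀ hext fun g => ?_
        have h2 : (β : K ⧸ Q → ℂ) ((φ a g : K) : K ⧸ Q) * (χ₀ : K → ℂ) (φ a g) =
            (β : K ⧸ Q → ℂ) g * (χ₀ : K → ℂ) g := hi a g
        rw [hχ₀ a g] at h2
        exact h2
      exact congrFun (congrArg Subtype.val h1) x
    · show (β : K ⧸ Q → ℂ) ((φ a k : K) : K ⧸ Q) * (χ₀ : K → ℂ) (φ a k) = _
      rw [hχ₀, ← hφb, hi]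
  have hγinv : ∀ γ, InvFun (subAut φ C fun a _ hk => h.fixed_map_mem a hk) (mkC γ : C → ℂ) := by
    intro γ a c
    show (γ : Cb → ℂ) (π ⟨φ a c, _⟩) * (χ₀ : K → ℂ) (φ a (c : K)) =
      (γ : Cb → ℂ) (π c) * (χ₀ : K → ℂ) (c : K)
    rw [hχ₀, show π ⟨φ a c, h.fixed_map_mem a c.2⟩ = π c from Subtype.ext ((hCb c).mpr c.2 a)]
  have hKsurj : ∀ χ, homMult Q.subtype χ θ ≠ 0 → ∃ β, mkK β = χ := fun χ hχ => by
    obtain ⟨β, hβ⟩ := exists_gallagher Q θ χ₀ hext χ hχ
    exact ⟨β, Subtype.ext (funext fun g => (hβ g).symm)⟩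
  have hCsurj : ∀ ξ, homMult (Subgroup.inclusion h.le_fixed) ξ θ ≠ 0 → ∃ γ, mkC γ = ξ := by
    intro ξ hξ
    obtain ⟨β, hβ⟩ := exists_gallagher N θN χC hextC ξ (by rw [hover]; exact hξ)
    refine ⟨irrComap e.symm β, Subtype.ext (funext fun g => ?_)⟩
    show (β : C ⧸ N → ℂ) (e.symm (e g)) * (χC : C → ℂ) g = _
    rw [MulEquiv.symm_apply_apply, ← hβ]
  have hKover : ∀ β, homMult Q.subtype (mkK β) θ ≠ 0 := gallagher_over Q θ χ₀ hext
  have hCover : ∀ γ, homMult (Subgroup.inclusion h.le_fixed) (mkC γ) θ ≠ 0 := fun γ => by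
    rw [← hover]; exact gallagher_over N θN χC hextC (irrComap e γ)
  have hK : ¬ p ∣ Nat.card (K ⧸ Q) := by rw [← Subgroup.index_eq_card]; exact h.not_dvd
  have M := matching_fixed φb h.isPGroupA hK Cb (fun _ => Iff.rfl)
  refine ⟨fun χ hχ => ?_, fun ξ hξ => ?_, fun χ ξ ξ' hχ hξ hξ' hm hm' => ?_,
    fun χ χ' ξ hχ hχ' hξ hm hm' => ?_, fun χ ξ hχ hξ hm => ?_⟩
  · obtain ⟨β, rfl⟩ := hKsurj χ hχ.2
    obtain ⟨γ, -, hγ⟩ := M.exists_left β ((hβinv β).mp hχ.1)
    exact ⟨mkC γ, ⟨hγinv γ, hCover γ⟩, by rwa [hmult]⟩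
  · obtain ⟨γ, rfl⟩ := hCsurj ξ hξ.2
    obtain ⟨β, hβ, hm⟩ := M.exists_right γ trivial
    exact ⟨mkK β, ⟨(hβinv β).mpr hβ, hKover β⟩, by rwa [hmult]⟩
  · obtain ⟨β, rfl⟩ := hKsurj χ hχ.2
    obtain ⟨γ, rfl⟩ := hCsurj ξ hξ.2
    obtain ⟨γ', rfl⟩ := hCsurj ξ' hξ'.2
    rw [hmult] at hm hm'
    rw [M.unique_right β γ γ' ((hβinv β).mp hχ.1) trivial trivial hm hm']
  · obtain ⟨β, rfl⟩ := hKsurj χ hχ.2
    obtain ⟨β', rfl⟩ := hKsurj χ' hχ'.2
    obtain ⟨γ, rfl⟩ := hCsurj ξ hξ.2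
    rw [hmult] at hm hm'
    rw [M.unique_left β β' γ ((hβinv β).mp hχ.1) ((hβinv β').mp hχ'.1) trivial hm hm']
  · obtain ⟨β, rfl⟩ := hKsurj χ hχ.2
    obtain ⟨γ, rfl⟩ := hCsurj ξ hξ.2
    rw [hmult] at hm ⊢
    exact M.sign β γ ((hβinv β).mp hχ.1) trivial hm

end Cfsg.Agent.GlauberCorr
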