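import Cfsg.Agent.GlauberCorr.Relative
import Cfsg.Prelude.Def_Blocks

/-!
# The relative correspondence for subgroups of an ambient group
-/

set_option autoImplicit false
set_option linter.style.haveILetI false

open scoped ComplexConjugate

namespace Cfsg.Agent.GlauberCorr

open Cfsg.Agent.Char

universe u

variable {G : Type u} [Group G]

/-- Conjugation of a normalised subgroup by elements of a subgroup. -/
def conjAct (P K : Subgroup G) (hPK : P ≤ Subgroup.normalizer (K : Set G)) : P →* MulAut K where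
  toFun x :=
    { toFun := fun k => ⟨(x : G) * k * (x : G)⁻¹, (Subgroup.mem_normalizer_iff.mp (hPK x.2) k).mp k.2⟩
      invFun := fun k => ⟨(x : G)⁻¹ * k * (x : G),
        (Subgroup.mem_normalizer_iff.mp (hPK x.2) _).mpr (by
          rw [show (x : G) * ((x : G)⁻¹ * k * x) * (x : G)⁻¹ = (k : G) by group]; exact k.2)⟩
      left_inv := fun k => Subtype.ext (by
        show (x : G)⁻¹ * ((x : G) * k * (x : G)⁻¹) * x = k; group)
      right_inv := fun k => Subtype.ext (by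
        show (x : G) * ((x : G)⁻¹ * k * x) * (x : G)⁻¹ = k; group)
      map_mul' := fun a b => Subtype.ext (by
        show (x : G) * ((a : G) * b) * (x : G)⁻¹ =
          (x : G) * a * (x : G)⁻¹ * ((x : G) * b * (x : G)⁻¹)
        group) }
  map_one' := MulEquiv.ext fun k => Subtype.ext (by simp)
  map_mul' x y := MulEquiv.ext fun k => Subtype.ext (by
    show ((x * y : P) : G) * (k : G) * ((x * y : P) : G)⁻¹ =
      (x : G) * ((y : G) * k * (y : G)⁻¹) * (x : G)⁻¹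
    rw [Subgroup.coe_mul]; group)

theorem conjAct_coe (P K : Subgroup G) (hPK : P ≤ Subgroup.normalizer (K : Set G)) (x : P) (k : K) :
    (conjAct P K hPK x k : G) = (x : G) * k * (x : G)⁻¹ := rfl

theorem charDegree_eq_of_nat {χ : G → ℂ} {n : ℕ} (h : χ 1 = n) : Cfsg.charDegree χ = n := by
  rw [Cfsg.charDegree, h, Complex.natCast_re, Nat.floor_natCast]

/-- The relative Glauberman correspondence for a `p`-subgroup normalising `K`. -/
theorem exists_relative_corr [Finite G] (p : ℕ) [hp : Fact p.Prime] (P K Q C : Subgroup G)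
    (hP : IsPGroup p P) (hPK : P ≤ Subgroup.normalizer (K : Set G)) (hQK : Q ≤ K)
    (hQn : ∀ k ∈ K, ∀ q ∈ Q, k * q * k⁻¹ ∈ Q) (hQp : ∃ a : ℕ, Nat.card Q = p ^ a)
    (hQsyl : ¬ p ∣ Q.relIndex K) (hCK : C ≤ K)
    (hC : ∀ k : G, k ∈ C ↔ (k ∈ K ∧ ∀ x ∈ P, x * k * x⁻¹ * k⁻¹ ∈ Q)) :
    ∃ f : {χ : IrrCharacter K // ∀ x ∈ P, ∀ k k' : K, (k' : G) = x * k * x⁻¹ →
        (χ : K → ℂ) k' = (χ : K → ℂ) k} →
      {ξ : IrrCharacter C // ∀ x ∈ P, ∀ k k' : C, (k' : G) = x * k * x⁻¹ →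
        (ξ : C → ℂ) k' = (ξ : C → ℂ) k},
    Function.Bijective f ∧ ∀ χ,
      (∀ ξ, (ξ = f χ → ((homMult (Subgroup.inclusion hCK) χ.1 ξ.1 : ZMod p) = 1 ∨
          (homMult (Subgroup.inclusion hCK) χ.1 ξ.1 : ZMod p) = -1)) ∧
        (ξ ≠ f χ → p ∣ homMult (Subgroup.inclusion hCK) χ.1 ξ.1)) ∧
      ((Cfsg.charDegree ((f χ).1 : C → ℂ) : ZMod p) = (Cfsg.charDegree (χ.1 : K → ℂ) : ZMod p) ∨
        (Cfsg.charDegree ((f χ).1 : C → ℂ) : ZMod p) =
          -(Cfsg.charDegree (χ.1 : K → ℂ) : ZMod p)) := by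
  classical
  set φ := conjAct P K hPK with hφ
  have h : RelFixed p φ (Q.subgroupOf K) (C.subgroupOf K) :=
    { isPGroupA := hP
      normal := ⟨fun q hq k => hQn k k.2 q hq⟩
      isPGroupQ := by
        obtain ⟨a, ha⟩ := hQp
        exact (IsPGroup.of_card ha).of_equiv (Subgroup.subgroupOfEquivOfLe hQK).symm
      not_dvd := hQsyl
      mem_iff := fun k => by
        rw [Subgroup.mem_subgroupOf, hC]
        exact ⟨fun hk a => hk.2 a a.2, fun hk => ⟨k.2, fun x hx => hk ⟨x, hx⟩⟩⟩ }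
  have M := h.matching
  set φC := subAut φ (C.subgroupOf K) fun a _ hk => h.fixed_map_mem a hk
  let e : C.subgroupOf K ≃* C := Subgroup.subgroupOfEquivOfLe hCK
  have hKinv : ∀ χ : IrrCharacter K, (∀ x ∈ P, ∀ k k' : K, (k' : G) = x * k * x⁻¹ →
      (χ : K → ℂ) k' = (χ : K → ℂ) k) ↔ InvFun φ (χ : K → ℂ) := by
    intro χ
    refine ⟨fun hx a k => hx a a.2 k _ rfl, fun hi x hx k k' he => ?_⟩
    rw [← hi ⟨x, hx⟩ k]
    exact congrArg _ (Subtype.ext he)
  have hCinv : ∀ ξ : IrrCharacter C, (∀ x ∈ P, ∀ k k' : C, (k' : G) = x * k * x⁻¹ →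
      (ξ : C → ℂ) k' = (ξ : C → ℂ) k) ↔ InvFun φC (irrComap e ξ : C.subgroupOf K → ℂ) := by
    intro ξ
    refine ⟨fun hx a k => hx a a.2 (e k) (e (φC a k)) rfl, fun hi x hx k k' he => ?_⟩
    have h1 := hi ⟨x, hx⟩ (e.symm k)
    rw [irrComap_coe, irrComap_coe, e.apply_symm_apply] at h1
    rw [← h1]
    exact congrArg _ (Subtype.ext he)
  have hm : ∀ (χ : IrrCharacter K) (ξ : IrrCharacter C),
      homMult (Subgroup.inclusion hCK) χ ξ = homMult (C.subgroupOf K).subtype χ (irrComap e ξ) :=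
    fun χ ξ => by rw [← homMult_comp_equiv (Subgroup.inclusion hCK) e χ ξ]; rfl
  have hex : ∀ χ : {χ : IrrCharacter K // ∀ x ∈ P, ∀ k k' : K, (k' : G) = x * k * x⁻¹ →
      (χ : K → ℂ) k' = (χ : K → ℂ) k},
      ∃ ξ : {ξ : IrrCharacter C // ∀ x ∈ P, ∀ k k' : C, (k' : G) = x * k * x⁻¹ →
        (ξ : C → ℂ) k' = (ξ : C → ℂ) k}, ¬ p ∣ homMult (Subgroup.inclusion hCK) χ.1 ξ.1 := by
    intro χ
    obtain ⟨ξ, hξ, hξm⟩ := M.exists_left χ.1 ((hKinv _).mp χ.2)
    refine ⟨⟨irrComap e.symm ξ, (hCinv _).mpr ?_⟩, ?_⟩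
    · rwa [irrComap_symm_irrComap]
    · rwa [hm, irrComap_symm_irrComap]
  choose f hf using hex
  have huniq : ∀ χ ξ, ¬ p ∣ homMult (Subgroup.inclusion hCK) χ.1 ξ.1 → ξ = f χ := by
    intro χ ξ hn
    have h1 := hf χ
    rw [hm] at hn h1
    have h2 := M.unique_right χ.1 _ _ ((hKinv _).mp χ.2) ((hCinv _).mp ξ.2)
      ((hCinv _).mp (f χ).2) hn h1
    refine Subtype.ext (Subtype.ext (funext fun c => ?_))
    have h3 := congrFun (congrArg Subtype.val h2) (e.symm c)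
    rwa [irrComap_coe, irrComap_coe, e.apply_symm_apply] at h3
  have hsign : ∀ χ, (homMult (Subgroup.inclusion hCK) χ.1 (f χ).1 : ZMod p) = 1 ∨
      (homMult (Subgroup.inclusion hCK) χ.1 (f χ).1 : ZMod p) = -1 := by
    intro χ
    have h1 := hf χ
    rw [hm] at h1 ⊢
    rcases M.sign χ.1 _ ((hKinv _).mp χ.2) ((hCinv _).mp (f χ).2) h1 with h2 | h2
    · left
      have := (ZMod.intCast_eq_intCast_iff _ _ p).mpr h2
      push_cast at this
      exact this
    · right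
      have := (ZMod.intCast_eq_intCast_iff _ _ p).mpr h2
      push_cast at this
      exact this
  refine ⟨f, ⟨fun χ χ' he => ?_, fun ξ => ?_⟩, fun χ => ⟨fun ξ => ⟨?_, ?_⟩, ?_⟩⟩
  · have h1 := hf χ
    have h2 := hf χ'
    rw [← he] at h2
    rw [hm] at h1 h2
    exact Subtype.ext (M.unique_left χ.1 χ'.1 _ ((hKinv _).mp χ.2) ((hKinv _).mp χ'.2)
      ((hCinv _).mp (f χ).2) h1 h2)
  · obtain ⟨χ, hχ, hχm⟩ := M.exists_right (irrComap e ξ.1) ((hCinv _).mp ξ.2)
    refine ⟨⟨χ, (hKinv _).mpr hχ⟩, (huniq _ ξ ?_).symm⟩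
    rwa [hm]
  · rintro rfl
    exact hsign χ
  · intro hne
    by_contra hn
    exact hne (huniq χ ξ hn)
  · obtain ⟨d, hd0, hd⟩ := irr_one_pos χ.1.2
    obtain ⟨d', hd0', hd'⟩ := irr_one_pos (f χ).1.2
    have h1 := hf χ
    rw [hm] at h1
    have hdeg := h.degree_congr χ.1 _ ((hKinv _).mp χ.2) ((hCinv _).mp (f χ).2) h1
    rw [irrComap_coe, map_one, hd, hd'] at hdeg
    haveI : NeZero p := ⟨hp.out.ne_zero⟩
    have h2 := Congr.int_modEq (p := p) (m := (d : ℤ))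
      (n := ((homMult (C.subgroupOf K).subtype χ.1 (irrComap e (f χ).1) * d' : ℕ) : ℤ))
      (by push_cast; exact hdeg)
    have h3 := (ZMod.intCast_eq_intCast_iff _ _ p).mpr h2
    push_cast at h3
    rw [charDegree_eq_of_nat hd, charDegree_eq_of_nat hd', h3]
    rcases hsign χ with h4 | h4 <;> rw [hm] at h4 <;> rw [h4]
    · left; rw [one_mul]
    · right; rw [neg_one_mul, neg_neg]

end Cfsg.Agent.GlauberCorr
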